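import Cfsg.Agent.H70.Fix4.ZeroPerm
import Mathlib

/-!
Actions in which involutions fix no point: rotation homomorphism of a set stabiliser,
fixed point counts of `3`-elements, non-reality.
-/

set_option autoImplicit false

namespace H70.Fix4

open MulAction
open scoped Pointwise

variable {G Ω : Type*} [Group G] [MulAction G Ω]

/-- The point stabilisers have odd order. -/
def InvFree (G Ω : Type*) [Group G] [MulAction G Ω] : Prop :=
  ∀ (g : G) (b : Ω), orderOf g = 2 → g • b ≠ b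

theorem odd_order_of_fixed [Finite G] (hfree : InvFree G Ω) {g : G} {b : Ω} (h : g • b = b) :
    Odd (orderOf g) := by
  rw [Nat.odd_iff]
  by_contra hne
  have hd : 2 ∣ orderOf g := by omega
  have h2 : orderOf (g ^ (orderOf g / 2)) = 2 := by
    rw [orderOf_pow_of_dvd (by have := orderOf_pos g; omega) (Nat.div_dvd_of_dvd hd),
      Nat.div_div_self hd (orderOf_pos g).ne']
  exact hfree _ b h2 (Subgroup.pow_mem (stabilizer G b) h _)

theorem odd_card_stabilizer [Finite G] (hfree : InvFree G Ω) (b : Ω) :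
    Odd (Nat.card (stabilizer G b)) := by
  rw [Nat.odd_iff]
  by_contra hne
  haveI : Fact (Nat.Prime 2) := ⟨Nat.prime_two⟩
  obtain ⟨g, hg⟩ := exists_prime_orderOf_dvd_card' (G := stabilizer G b) 2 (by omega)
  exact hfree g b (by rw [Subgroup.orderOf_coe, hg]) g.2

theorem no_inverting_fixed [Finite G] (hfree : InvFree G Ω) {g y : G} {b : Ω} (h : g • b = b)
    (hy : orderOf y = 3) (hgy : g * y * g⁻¹ = y⁻¹) : False := by
  obtain ⟨m, hm⟩ := odd_order_of_fixed hfree h
  have h2 : Commute (g * g) y := by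
    have : g * g * y * (g * g)⁻¹ = y := by
      calc g * g * y * (g * g)⁻¹ = g * (g * y * g⁻¹) * g⁻¹ := by group
        _ = g * y⁻¹ * g⁻¹ := by rw [hgy]
        _ = (g * y * g⁻¹)⁻¹ := by group
        _ = y := by rw [hgy, inv_inv]
    exact mul_inv_eq_iff_eq_mul.mp this
  have hg : g = ((g * g) ^ m)⁻¹ := by
    rw [eq_inv_iff_mul_eq_one, ← pow_two, ← pow_mul, ← pow_succ', ← hm, pow_orderOf_eq_one]
  have h3 : Commute g y := by rw [hg]; exact (h2.pow_left m).inv_left
  rw [h3.eq, mul_inv_cancel_right] at hgy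
  have : y ^ 2 = 1 := by rw [pow_two]; nth_rw 2 [hgy]; rw [mul_inv_cancel]
  have := orderOf_dvd_of_pow_eq_one this
  rw [hy] at this
  norm_num at this

/-- The permutation induced on an invariant set. -/
noncomputable def permOn (W : Set Ω) : stabilizer G W →* Equiv.Perm W where
  toFun m :=
    { toFun := fun x => ⟨(m : G) • (x : Ω), by
        have h : (m : G) • W = W := m.2
        have h2 := Set.smul_mem_smul_set (a := (m : G)) x.2
        rwa [h] at h2⟩
      invFun := fun x => ⟨((m : G))⁻¹ • (x : Ω), by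
        have h : ((m : G))⁻¹ • W = W := (m⁻¹).2
        have h2 := Set.smul_mem_smul_set (a := ((m : G))⁻¹) x.2
        rwa [h] at h2⟩
      left_inv := fun x => Subtype.ext (inv_smul_smul (m : G) (x : Ω))
      right_inv := fun x => Subtype.ext (smul_inv_smul (m : G) (x : Ω)) }
  map_one' := by ext x; exact one_smul G (x : Ω)
  map_mul' a b := by ext x; exact mul_smul (a : G) (b : G) (x : Ω)

theorem permOn_apply (W : Set Ω) (m : stabilizer G W) (x : W) :
    ((permOn W m x : W) : Ω) = (m : G) • (x : Ω) := rfl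

theorem cube_eq_one_of_three_group {n : ℕ} (hn : n ≤ 4) (π : Equiv.Perm (Fin n)) (j : ℕ)
    (h : π ^ 3 ^ j = 1) : π * π * π = 1 := by
  have h1 : orderOf π ∣ 3 ^ j := orderOf_dvd_of_pow_eq_one h
  have h2 : orderOf π ∣ Nat.factorial n := by
    have := orderOf_dvd_natCard π
    rwa [Nat.card_perm, Nat.card_fin] at this
  have h3 : orderOf π ∣ 24 := h2.trans (Nat.factorial_dvd_factorial hn)
  obtain ⟨i, hi, hi'⟩ := (Nat.dvd_prime_pow Nat.prime_three).mp h1
  have : orderOf π ∣ 3 := by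
    rcases i with _ | _ | i
    · simp [hi']
    · simp [hi']
    · exfalso
      rw [hi', pow_succ, pow_succ] at h3
      rw [mul_assoc] at h3
      have : 3 * 3 ∣ 24 := (dvd_mul_left (3 * 3) (3 ^ i)).trans h3
      norm_num at this
  have h4 := orderOf_dvd_iff_pow_eq_one.mp this
  rwa [pow_succ, pow_two] at h4

/-- The rotation homomorphism of the stabiliser of a set of three or four points. -/
theorem exists_rot [Finite G] (hfree : InvFree G Ω) (W : Set Ω)
    (hW : W.ncard = 3 ∨ W.ncard = 4) (p : G) (hpW : p ∈ stabilizer G W) (j : ℕ)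
    (hp3 : p ^ 3 ^ j = 1) (hmove : ∃ x ∈ W, p • x ≠ x) :
    ∃ ψ : stabilizer G W →* Multiplicative (ZMod 3),
      (∀ (u : G) (hu : u ∈ stabilizer G W) (i : ℕ), u ^ 3 ^ i = 1 →
        (ψ ⟨u, hu⟩ = 1 ↔ ∀ x ∈ W, u • x = x)) ∧
      (∀ (m u : G) (_ : m ∈ stabilizer G W) (_ : u ∈ stabilizer G W) (i : ℕ), u ^ 3 ^ i = 1 →
        (∃ x ∈ W, u • x ≠ x) → (∀ x ∈ W, (m * u) • x = (u * m) • x) →
        ∃ e : ℕ, ∀ x ∈ W, (m * (u ^ e)⁻¹) • x = x) := by
  classical
  have hfin : W.Finite := Set.finite_of_ncard_ne_zero (by omega)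
  haveI : Finite W := hfin.to_subtype
  haveI : Fintype W := Fintype.ofFinite _
  have hle : Fintype.card W ≤ 4 := by
    rw [← Nat.card_eq_fintype_card, Nat.card_coe_set_eq]; omega
  obtain ⟨eW⟩ : Nonempty (W ↪ Fin 4) := Function.Embedding.nonempty_of_card_le (by simpa using hle)
  set ρ : stabilizer G W →* Equiv.Perm (Fin 4) :=
    (Equiv.Perm.viaEmbeddingHom eW).comp (permOn W) with hρ
  have hρsign : ∀ m, Equiv.Perm.sign (ρ m) = Equiv.Perm.sign (permOn W m) := by
    intro m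
    rw [hρ, MonoidHom.comp_apply, Equiv.Perm.viaEmbeddingHom_apply]
    convert Equiv.Perm.sign_extendDomain (permOn W m) (Equiv.ofInjective eW eW.injective)
    ext b
    by_cases hb : b ∈ Set.range eW
    · obtain ⟨c, rfl⟩ := hb
      rw [Equiv.Perm.viaEmbedding_apply]
      have := Equiv.Perm.extendDomain_apply_image (permOn W m) (Equiv.ofInjective eW eW.injective) c
      simp only [Equiv.ofInjective_apply] at this
      rw [this]
    · rw [Equiv.Perm.viaEmbedding_apply_of_notMem _ _ _ hb, Equiv.Perm.extendDomain_apply_not_subtype _ _ hb]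
  have hρone : ∀ m, ρ m = 1 ↔ ∀ x ∈ W, (m : G) • x = x := by
    intro m
    rw [hρ, MonoidHom.comp_apply,
      map_eq_one_iff _ (Equiv.Perm.viaEmbeddingHom_injective eW)]
    constructor
    · intro h x hx
      exact congrArg Subtype.val (DFunLike.congr_fun h ⟨x, hx⟩)
    · intro h; ext x; exact h x x.2
  have hρcube : ∀ (m : stabilizer G W) (i : ℕ), (m : G) ^ 3 ^ i = 1 → ρ m * ρ m * ρ m = 1 := by
    intro m i hi
    refine cube_eq_one_of_three_group le_rfl _ i ?_
    rw [← map_pow, show m ^ 3 ^ i = 1 from Subtype.ext (by simpa using hi), map_one]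
  obtain ⟨k, hk⟩ : ∃ k, W.ncard = k := ⟨_, rfl⟩
  let eK : W ≃ Fin k := (Finite.equivFinOfCardEq (by rw [Nat.card_coe_set_eq, hk]))
  have heven : ∀ m, Equiv.Perm.sign (ρ m) = 1 := by
    intro m
    rcases Int.units_eq_one_or (Equiv.Perm.sign (ρ m)) with h | h
    · exact h
    exfalso
    rw [hρsign, ← Equiv.Perm.sign_permCongr eK] at h
    set π := eK.permCongr (permOn W ⟨p, hpW⟩) with hπ
    have hπ1 : π ≠ 1 := by
      obtain ⟨x, hx, hne⟩ := hmove
      intro h1
      apply hne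
      have h2 := DFunLike.congr_fun h1 (eK ⟨x, hx⟩)
      simp [hπ, Equiv.permCongr_apply] at h2
      exact congrArg Subtype.val h2
    have hπ3 : π * π * π = 1 := by
      refine cube_eq_one_of_three_group (by omega) _ j ?_
      have : (permOn W ⟨p, hpW⟩) ^ 3 ^ j = 1 := by
        rw [← map_pow, show (⟨p, hpW⟩ : stabilizer G W) ^ 3 ^ j = 1 from Subtype.ext (by simpa using hp3),
          map_one]
      rw [hπ]
      show (Equiv.permCongrHom eK (permOn W ⟨p, hpW⟩)) ^ 3 ^ j = 1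
      rw [← map_pow, this, map_one]
    have hkey : ∃ x : Fin k, (eK.permCongr (permOn W m)) x = x ∨
        (eK.permCongr (permOn W m)) (π x) = x ∨ (eK.permCongr (permOn W m)) (π (π x)) = x := by
      rcases hW with hW | hW <;> rw [hk] at hW <;> subst hW
      · exact fixed_of_odd3 _ _ h hπ3 hπ1
      · exact fixed_of_odd4 _ _ h hπ3 hπ1
    obtain ⟨x, hx⟩ := hkey
    have hfixed : ∃ i : ℕ, permOn W (m * ⟨p, hpW⟩ ^ i) (eK.symm x) = eK.symm x := by
      rcases hx with hx | hx | hx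
      · refine ⟨0, ?_⟩
        apply eK.injective
        simpa [Equiv.permCongr_apply] using hx
      · refine ⟨1, ?_⟩
        apply eK.injective
        simpa [hπ, Equiv.permCongr_apply] using hx
      · refine ⟨2, ?_⟩
        apply eK.injective
        rw [map_mul, map_pow, pow_two]
        simpa [hπ, Equiv.permCongr_apply] using hx
    obtain ⟨i, hi⟩ := hfixed
    obtain ⟨c, hc⟩ := odd_order_of_fixed hfree
      (show ((m * ⟨p, hpW⟩ ^ i : stabilizer G W) : G) • ((eK.symm x : W) : Ω) = _ from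
        congrArg Subtype.val hi)
    rw [Subgroup.orderOf_coe] at hc
    have hs : Equiv.Perm.sign (permOn W (m * ⟨p, hpW⟩ ^ i)) = 1 := by
      have h1 : Equiv.Perm.sign (permOn W (m * ⟨p, hpW⟩ ^ i)) ^ (2 * c + 1) = 1 := by
        rw [← map_pow, ← map_pow, ← hc, pow_orderOf_eq_one, map_one, map_one]
      rwa [pow_succ, pow_mul, Int.units_sq, one_pow, one_mul] at h1
    have hp1 : Equiv.Perm.sign (permOn W ⟨p, hpW⟩) = 1 := by
      rw [← hρsign]
      exact (rot_three _ (hρcube _ j hp3) (fun hc => by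
        obtain ⟨x, hx, hne⟩ := hmove
        exact hne ((hρone _).mp hc x hx))).1
    rw [map_mul, map_mul, map_pow, map_pow, hp1, one_pow, mul_one, ← Equiv.Perm.sign_permCongr eK, h] at hs
    exact absurd hs (by decide)
  refine ⟨MonoidHom.mk' (fun m => Multiplicative.ofAdd (rot (ρ m))) (fun a b => ?_), ?_, ?_⟩
  · rw [map_mul, rot_mul _ _ (heven a) (heven b), ofAdd_add]
  · intro u hu i hi
    show Multiplicative.ofAdd (rot (ρ ⟨u, hu⟩)) = 1 ↔ _
    rw [← ofAdd_zero, Multiplicative.ofAdd.injective.eq_iff]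
    constructor
    · intro h
      have h2 := rot_zero _ (heven _) h
      have h3 := hρcube ⟨u, hu⟩ i hi
      rw [h2, one_mul] at h3
      exact (hρone _).mp h3
    · intro h
      rw [(hρone ⟨u, hu⟩).mpr h, rot_one]
  · intro m u hm hu i hi hmv hcomm
    have h1 : ρ ⟨u, hu⟩ ≠ 1 := by
      obtain ⟨x, hx, hne⟩ := hmv
      exact fun hc => hne ((hρone _).mp hc x hx)
    have h2 : ρ ⟨m, hm⟩ * ρ ⟨u, hu⟩ = ρ ⟨u, hu⟩ * ρ ⟨m, hm⟩ := by
      rw [← map_mul, ← map_mul, hρ, MonoidHom.comp_apply, MonoidHom.comp_apply]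
      congr 1
      ext x
      exact hcomm x x.2
    obtain ⟨e, he⟩ : ∃ e : ℕ, ρ ⟨m, hm⟩ = ρ ⟨u, hu⟩ ^ e := by
      rcases commute_three _ _ (heven _) (hρcube ⟨u, hu⟩ i hi) h1 h2 with h | h | h
      · exact ⟨0, by rw [h, pow_zero]⟩
      · exact ⟨1, by rw [h, pow_one]⟩
      · exact ⟨2, by rw [h, pow_two]⟩
    refine ⟨e, ?_⟩
    have h3 : ρ (⟨m, hm⟩ * (⟨u, hu⟩ ^ e)⁻¹) = 1 := by
      rw [map_mul, map_inv, map_pow, he, mul_inv_cancel]
    intro x hx
    have := (hρone _).mp h3 x hx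
    simpa using this

theorem fixedBy_conj (g x : G) :
    fixedBy Ω (g * x * g⁻¹) = g • fixedBy Ω x := by
  ext b
  rw [Set.mem_smul_set_iff_inv_smul_mem, mem_fixedBy, mem_fixedBy, mul_smul, mul_smul,
    smul_eq_iff_eq_inv_smul]

theorem mem_stabilizer_fixedBy {g x : G} (h : Commute g x) :
    g ∈ stabilizer G (fixedBy Ω x) := by
  rw [mem_stabilizer_iff, ← fixedBy_conj, h.eq, mul_inv_cancel_right]

theorem fixedPoints_zpowers (x : G) :
    fixedPoints (Subgroup.zpowers x) Ω = fixedBy Ω x := by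
  ext b
  constructor
  · intro h; exact h ⟨x, Subgroup.mem_zpowers x⟩
  · rintro h ⟨y, hy⟩
    exact (Subgroup.zpowers_le.mpr (show x ∈ stabilizer G b from h)) hy

theorem ncard_fixedBy_modEq [Finite Ω] {x : G} {i : ℕ} (hx : x ^ 3 ^ i = 1) :
    (fixedBy Ω x).ncard ≡ Nat.card Ω [MOD 3] := by
  haveI : Fact (Nat.Prime 3) := ⟨Nat.prime_three⟩
  have hp : IsPGroup 3 (Subgroup.zpowers x) := by
    rintro ⟨y, hy⟩
    obtain ⟨k, rfl⟩ := Subgroup.mem_zpowers_iff.mp hy
    refine ⟨i, Subtype.ext ?_⟩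
    push_cast
    rw [← zpow_natCast, ← zpow_mul, mul_comm, zpow_mul, zpow_natCast, hx, one_zpow]
  have := (hp.card_modEq_card_fixedPoints Ω).symm
  rwa [fixedPoints_zpowers, Nat.card_coe_set_eq] at this

theorem pow_three_pow_of_mem {P : Subgroup G} (hP : IsPGroup 3 P) {x : G} (hx : x ∈ P) :
    ∃ i : ℕ, x ^ 3 ^ i = 1 := by
  obtain ⟨i, hi⟩ := hP ⟨x, hx⟩
  exact ⟨i, by simpa using congrArg Subtype.val hi⟩

theorem conj_into [Finite G] (P : Sylow 3 G) {M R : Subgroup G} (hPM : (P : Subgroup G) ≤ M)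
    (hRM : R ≤ M) (hR : IsPGroup 3 R) :
    ∃ m ∈ M, ∀ r ∈ R, m * r * m⁻¹ ∈ (P : Subgroup G) := by
  haveI : Fact (Nat.Prime 3) := ⟨Nat.prime_three⟩
  obtain ⟨Q, hQ⟩ := (hR.of_equiv (Subgroup.subgroupOfEquivOfLe hRM).symm).exists_le_sylow
  obtain ⟨m, hm⟩ := MulAction.exists_smul_eq M Q (P.subtype hPM)
  refine ⟨m, m.2, fun r hr => ?_⟩
  have h1 : MulAut.conj m • (⟨r, hRM hr⟩ : M) ∈ (m • Q : Sylow 3 M).toSubgroup := by
    rw [Sylow.coe_subgroup_smul]
    exact Subgroup.smul_mem_pointwise_smul (⟨r, hRM hr⟩ : M) (MulAut.conj m) (Q : Subgroup M)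
      (hQ (Subgroup.mem_subgroupOf.mpr hr))
  rw [hm, Sylow.coe_subtype, Subgroup.mem_subgroupOf] at h1
  simpa [MulAut.smul_def, MulAut.conj_apply] using h1

end H70.Fix4
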