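import Cfsg.Agent.H70.Fix4.ZeroCore
import Cfsg.Agent.H70.Fix4.ZeroAct

/-!
Fixity four, all involutions fixed-point-free, point stabilisers of order divisible by `3`:
a strongly `3`-embedded subgroup or an elementary abelian Sylow `3`-subgroup of order `9`.
-/

set_option autoImplicit false

namespace H70.Fix4

open MulAction
open scoped Pointwise

variable {G Ω : Type*} [Group G] [MulAction G Ω] [Finite G] [Finite Ω]

/-- An element of order `3` with three or four fixed points, centralised by an element of order `3`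
moving one of them, and with small centraliser is not real. -/
theorem not_real (hfree : InvFree G Ω) (y z : G) (hy : orderOf y = 3) (hz : orderOf z = 3)
    (hc : Commute z y) (hW : (fixedBy Ω y).ncard = 3 ∨ (fixedBy Ω y).ncard = 4)
    (hmove : ∃ x ∈ fixedBy Ω y, z • x ≠ x)
    (h27 : ¬ 27 ∣ Nat.card (Subgroup.centralizer {y})) : ¬ IsConj y y⁻¹ := by
  classical
  haveI : Fact (Nat.Prime 3) := ⟨Nat.prime_three⟩
  intro hcj
  obtain ⟨g, hg⟩ := isConj_iff.mp hcj
  set W := fixedBy Ω y with hWdef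
  set C := Subgroup.centralizer ({y} : Set G) with hC
  have hyC : y ∈ C := Subgroup.mem_centralizer_singleton_iff.mpr rfl
  have hzC : z ∈ C := Subgroup.mem_centralizer_singleton_iff.mpr hc.eq
  have hyp : IsPGroup 3 (Subgroup.zpowers (⟨y, hyC⟩ : C)) := by
    apply IsPGroup.of_card (n := 1)
    rw [Nat.card_zpowers, ← Subgroup.orderOf_coe, hy, pow_one]
  have hzp : IsPGroup 3 (Subgroup.zpowers (⟨z, hzC⟩ : C)) := by
    apply IsPGroup.of_card (n := 1)
    rw [Nat.card_zpowers, ← Subgroup.orderOf_coe, hz, pow_one]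
  have hycen : (⟨y, hyC⟩ : C) ∈ Subgroup.center C := by
    rw [Subgroup.mem_center_iff]
    exact fun c => Subtype.ext (Subgroup.mem_centralizer_singleton_iff.mp c.2)
  haveI hnorm : (Subgroup.zpowers (⟨y, hyC⟩ : C)).Normal := ⟨fun u hu c => by
    have : u ∈ Subgroup.center C := Subgroup.zpowers_le.mpr hycen hu
    rwa [Subgroup.mem_center_iff.mp this c, mul_inv_cancel_right]⟩
  set E := Subgroup.zpowers (⟨y, hyC⟩ : C) ⊔ Subgroup.zpowers (⟨z, hzC⟩ : C) with hE
  obtain ⟨Q, hQ⟩ := (hyp.to_sup_of_normal_left hzp : IsPGroup 3 E).exists_le_sylow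
  have hzy : (⟨z, hzC⟩ : C) ∉ Subgroup.zpowers (⟨y, hyC⟩ : C) := by
    intro h
    obtain ⟨i, hi⟩ := Subgroup.mem_zpowers_iff.mp h
    obtain ⟨x, hx, hne⟩ := hmove
    apply hne
    have h1 : (y ^ i) • x = x := Subgroup.zpow_mem (stabilizer G x) hx i
    have h2 : y ^ i = z := by simpa using congrArg Subtype.val hi
    rwa [h2] at h1
  have hQE : (Q : Subgroup C) = E := by
    refine (Subgroup.eq_of_le_of_card_ge hQ ?_).symm
    obtain ⟨n, hn⟩ := Q.isPGroup'.exists_card_eq
    have hn2 : n ≤ 2 := by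
      by_contra hne
      refine h27 ((Dvd.dvd.trans ?_ (Subgroup.card_subgroup_dvd_card (Q : Subgroup C))))
      rw [hn]
      exact pow_dvd_pow 3 (by omega : 3 ≤ n)
    obtain ⟨l, hl⟩ := (hyp.to_sup_of_normal_left hzp : IsPGroup 3 E).exists_card_eq
    have h3 : 3 < Nat.card E := by
      have h4 : Subgroup.zpowers (⟨y, hyC⟩ : C) ≤ E := le_sup_left
      have h5 : Nat.card (Subgroup.zpowers (⟨y, hyC⟩ : C)) = 3 := by
        rw [Nat.card_zpowers, ← Subgroup.orderOf_coe, hy]
      rcases lt_or_ge 3 (Nat.card E) with h | h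
      · exact h
      · have h6 := Subgroup.eq_of_le_of_card_ge h4 (h.trans h5.ge)
        exact absurd (h6 ▸ (le_sup_right : _ ≤ E) (Subgroup.mem_zpowers _)) hzy
    rw [hn, hl]
    rw [hl] at h3
    refine Nat.pow_le_pow_right (by norm_num) ?_
    rcases l with _ | _ | l <;> first | omega | (norm_num at h3)
  have hgC : ∀ c ∈ C, g * c * g⁻¹ ∈ C := by
    intro c hc'
    rw [Subgroup.mem_centralizer_singleton_iff] at hc' ⊢
    have h1 : y = (g * y * g⁻¹)⁻¹ := by rw [hg, inv_inv]
    nth_rw 2 [h1]; nth_rw 1 [h1]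
    calc g * c * g⁻¹ * (g * y * g⁻¹)⁻¹ = g * (c * y⁻¹) * g⁻¹ := by group
      _ = g * (y⁻¹ * c) * g⁻¹ := by
        rw [(show Commute c y from hc').inv_right.eq]
      _ = _ := by group
  set α : C →* C :=
    { toFun := fun c => ⟨g * c * g⁻¹, hgC c c.2⟩
      map_one' := Subtype.ext (by simp)
      map_mul' := fun a b => Subtype.ext (by simp [mul_assoc]) } with hα
  obtain ⟨Q', hQ'⟩ := (Q.isPGroup'.map α).exists_le_sylow
  obtain ⟨c, hcQ⟩ := MulAction.exists_smul_eq C Q' Q
  have hz' : c * α ⟨z, hzC⟩ * c⁻¹ ∈ E := by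
    rw [← hQE]
    have h1 : α ⟨z, hzC⟩ ∈ (Q' : Subgroup C) :=
      hQ' ⟨⟨z, hzC⟩, hQ (le_sup_right (a := Subgroup.zpowers (⟨y, hyC⟩ : C)) (Subgroup.mem_zpowers _)), rfl⟩
    rw [← hcQ, Sylow.coe_subgroup_smul, Subgroup.mem_pointwise_smul_iff_inv_smul_mem]
    simpa [MulAut.smul_def, MulAut.conj_apply, mul_assoc] using h1
  obtain ⟨u, hu, v, hv, huv⟩ := Subgroup.mem_sup_of_normal_left.mp hz'
  obtain ⟨a, ha⟩ := Subgroup.mem_zpowers_iff.mp hu
  obtain ⟨b, hb⟩ := Subgroup.mem_zpowers_iff.mp hv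
  set h := (c : G) * g with hh
  have hhy : h * y * h⁻¹ = y⁻¹ := by
    have h1 : Commute (c : G) y⁻¹ :=
      (show Commute (c : G) y from Subgroup.mem_centralizer_singleton_iff.mp c.2).inv_right
    calc h * y * h⁻¹ = (c : G) * (g * y * g⁻¹) * (c : G)⁻¹ := by rw [hh]; group
      _ = y⁻¹ := by rw [hg, h1.eq, mul_inv_cancel_right]
  have hhz : h * z * h⁻¹ = y ^ a * z ^ b := by
    have h1 := congrArg Subtype.val huv
    rw [← ha, ← hb] at h1
    push_cast at h1
    rw [h1, hh, hα]
    simp [mul_assoc]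
  have hyW : ∀ x ∈ W, y • x = x := fun x hx => hx
  have hhW : h ∈ stabilizer G W := by
    rw [mem_stabilizer_iff, hWdef, ← fixedBy_conj, hhy, fixedBy_inv]
  have hzW : z ∈ stabilizer G W := mem_stabilizer_fixedBy hc
  have hyW' : y ∈ stabilizer G W := mem_stabilizer_fixedBy (Commute.refl y)
  have hy3 : y ^ 3 ^ 1 = 1 := orderOf_dvd_iff_pow_eq_one.mp (by simp [hy])
  have hz3 : z ^ 3 ^ 1 = 1 := orderOf_dvd_iff_pow_eq_one.mp (by simp [hz])
  obtain ⟨ψ, hψ, hψc⟩ := exists_rot hfree W hW z hzW 1 hz3 hmove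
  have hψy : ψ ⟨y, hyW'⟩ = 1 := (hψ y hyW' 1 hy3).mpr hyW
  have hψz : ψ ⟨z, hzW⟩ ≠ 1 := fun h1 => by
    obtain ⟨x, hx, hne⟩ := hmove
    exact hne ((hψ z hzW 1 hz3).mp h1 x hx)
  have hψh : ψ ⟨z, hzW⟩ = ψ ⟨z, hzW⟩ ^ b := by
    have h1 : (⟨h, hhW⟩ * ⟨z, hzW⟩ * (⟨h, hhW⟩)⁻¹ : stabilizer G W) =
        ⟨y, hyW'⟩ ^ a * ⟨z, hzW⟩ ^ b := Subtype.ext (by simpa using hhz)
    have h2 := congrArg ψ h1
    rw [map_mul, map_mul, map_inv, map_mul, map_zpow, map_zpow, hψy, one_zpow, one_mul,
      mul_comm, ← mul_assoc, inv_mul_cancel, one_mul] at h2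
    exact h2
  have hzb : z ^ b = z := by
    have h3 : ψ ⟨z, hzW⟩ ^ (b - 1) = 1 := by rw [zpow_sub_one, ← hψh, mul_inv_cancel]
    have h4 := orderOf_dvd_iff_zpow_eq_one.mpr h3
    have h5 : ψ ⟨z, hzW⟩ ^ 3 = 1 := by
      rw [← map_pow, show (⟨z, hzW⟩ : stabilizer G W) ^ 3 = 1 from Subtype.ext (by simpa using hz3),
        map_one]
    rw [orderOf_eq_prime h5 hψz] at h4
    have h6 : z ^ (b - 1) = 1 := orderOf_dvd_iff_zpow_eq_one.mp (by rwa [hz])
    have h7 : b = (b - 1) + 1 := by ring
    rw [h7, zpow_add, h6, one_mul, zpow_one]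
  obtain ⟨e, he⟩ := hψc h z hhW hzW 1 hz3 hmove (fun x hx => by
    have h1 : h * z = y ^ a * (z * h) := by
      have := hhz
      rw [hzb, mul_inv_eq_iff_eq_mul] at this
      rw [this, mul_assoc]
    have h2 : (z * h) • x ∈ W := by
      have h3 := Set.smul_mem_smul_set (a := z * h) hx
      rwa [((stabilizer G W).mul_mem hzW hhW : (z * h) • W = W)] at h3
    rw [h1, mul_smul]
    exact Subgroup.zpow_mem (stabilizer G ((z * h) • x)) (hyW _ h2) a)
  obtain ⟨x, hx, -⟩ := hmove
  refine no_inverting_fixed hfree (he x hx) hy ?_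
  have h1 : Commute (z ^ e)⁻¹ y := (hc.pow_left e).inv_left
  calc h * (z ^ e)⁻¹ * y * (h * (z ^ e)⁻¹)⁻¹
      = h * ((z ^ e)⁻¹ * y * ((z ^ e)⁻¹)⁻¹) * h⁻¹ := by group
    _ = y⁻¹ := by rw [h1.eq, mul_inv_cancel_right, hhy]

/-- A set of points on which a Sylow `3`-subgroup acts trivially and which is the exact fixed
point set of each of its non-trivial elements gives a strongly `3`-embedded stabiliser. -/
theorem spe_of_fixed (htrans : IsPretransitive G Ω) (P : Sylow 3 G) (hP : 3 ∣ Nat.card P)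
    (Δ : Set Ω) (hne : Δ.Nonempty) (hprop : Δ ≠ Set.univ)
    (hfix : ∀ x ∈ (P : Subgroup G), x ≠ 1 → fixedBy Ω x = Δ) :
    ∃ H : Subgroup G, H ≠ ⊤ ∧ 3 ∣ Nat.card H ∧
      ∀ g : G, g ∉ H → ¬ 3 ∣ Nat.card ↥(H ⊓ H.map (MulAut.conj g).toMonoidHom) := by
  classical
  haveI : Fact (Nat.Prime 3) := ⟨Nat.prime_three⟩
  have hPM : (P : Subgroup G) ≤ stabilizer G Δ := by
    intro x hx
    rcases eq_or_ne x 1 with rfl | hx1
    · exact Subgroup.one_mem _
    · rw [← hfix x hx hx1]; exact mem_stabilizer_fixedBy (Commute.refl x)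
  have hkey : ∀ x ∈ stabilizer G Δ, orderOf x = 3 → fixedBy Ω x = Δ := by
    intro x hx hx3
    have hp : IsPGroup 3 (Subgroup.zpowers x) :=
      IsPGroup.of_card (n := 1) (by rw [Nat.card_zpowers, hx3, pow_one])
    obtain ⟨m, hm, hmP⟩ := conj_into P hPM (Subgroup.zpowers_le.mpr hx) hp
    have h1 := hfix _ (hmP x (Subgroup.mem_zpowers x)) (by
      rw [ne_eq, conj_eq_one_iff]; intro h; rw [h, orderOf_one] at hx3; omega)
    rw [fixedBy_conj, smul_eq_iff_eq_inv_smul] at h1
    rw [h1]
    exact (Subgroup.inv_mem _ hm : _)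
  refine ⟨stabilizer G Δ, ?_, hP.trans (Subgroup.card_dvd_of_le hPM), ?_⟩
  · intro htop
    obtain ⟨d, hd⟩ := hne
    obtain ⟨b, hb⟩ := (Set.ne_univ_iff_exists_notMem Δ).mp hprop
    obtain ⟨g, hg⟩ := exists_smul_eq G d b
    have h1 : g • Δ = Δ := (htop.symm ▸ Subgroup.mem_top g : g ∈ stabilizer G Δ)
    have h2 := Set.smul_mem_smul_set (a := g) hd
    rw [h1, hg] at h2
    exact hb h2
  · intro g hg hd
    obtain ⟨x, hx⟩ := exists_prime_orderOf_dvd_card' 3 hd
    obtain ⟨hx1, ⟨u, hu, hux⟩⟩ := x.2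
    have hxo : orderOf (x : G) = 3 := by rw [Subgroup.orderOf_coe, hx]
    have h1 := hkey x hx1 hxo
    have hux' : g * u * g⁻¹ = (x : G) := hux
    have huo : orderOf u = 3 := by
      rw [← hxo, ← hux']
      exact (MulEquiv.orderOf_eq (MulAut.conj g) u).symm
    rw [← hux', fixedBy_conj, hkey u hu huo] at h1
    exact hg h1

/-- Fixity four and fixed-point-free involutions. -/
theorem zero_case (hperf : commutator G = ⊤) (htrans : IsPretransitive G Ω)
    (hbig : 5 ≤ Nat.card Ω)
    (hfix : ∀ g : G, g ≠ 1 → (fixedBy Ω g).ncard ≤ 4) (hfree : InvFree G Ω)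
    (P : Sylow 3 G) (a : Ω) (h3 : 3 ∣ Nat.card (stabilizer G a)) :
    (∃ H : Subgroup G, H ≠ ⊤ ∧ 3 ∣ Nat.card H ∧
      ∀ g : G, g ∉ H → ¬ 3 ∣ Nat.card ↥(H ⊓ H.map (MulAut.conj g).toMonoidHom)) ∨
    (Nat.card P = 9 ∧ ∀ x ∈ (P : Subgroup G), x ^ 3 = 1) := by
  classical
  haveI : Fact (Nat.Prime 3) := ⟨Nat.prime_three⟩
  have hPp : IsPGroup 3 (P : Subgroup G) := P.isPGroup'
  -- an element of `P` of order three with a fixed point
  obtain ⟨x0, hx0P, hx0, b0, hb0⟩ :
      ∃ x ∈ (P : Subgroup G), orderOf x = 3 ∧ ∃ b : Ω, x • b = b := by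
    obtain ⟨x, hx⟩ := exists_prime_orderOf_dvd_card' (G := stabilizer G a) 3 h3
    have hxo : orderOf (x : G) = 3 := by rw [Subgroup.orderOf_coe, hx]
    have hp : IsPGroup 3 (Subgroup.zpowers (x : G)) :=
      IsPGroup.of_card (n := 1) (by rw [Nat.card_zpowers, hxo, pow_one])
    obtain ⟨S, hS⟩ := hp.exists_le_sylow
    obtain ⟨g, hg⟩ := MulAction.exists_smul_eq G S P
    refine ⟨g * x * g⁻¹, ?_, ?_, g • a, ?_⟩
    · rw [← hg, Sylow.coe_subgroup_smul, Subgroup.mem_pointwise_smul_iff_inv_smul_mem]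
      simpa [MulAut.smul_def, MulAut.conj_apply, mul_assoc] using hS (Subgroup.mem_zpowers _)
    · rw [← hxo]; exact MulEquiv.orderOf_eq (MulAut.conj g) (x : G)
    · have hxa : (x : G) • a = a := x.2
      rw [mul_smul, mul_smul, inv_smul_smul, hxa]
  have hx0ne : x0 ≠ 1 := by intro h; rw [h, orderOf_one] at hx0; omega
  have hP3 : 3 ∣ Nat.card P := by
    have := Subgroup.orderOf_dvd_natCard (P : Subgroup G) hx0P
    rwa [hx0] at this
  set FP : Set Ω := fixedPoints (P : Subgroup G) Ω with hFP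
  have hFPsub : ∀ x ∈ (P : Subgroup G), FP ⊆ fixedBy Ω x := fun x hx b hb => hb ⟨x, hx⟩
  have hFPmod : FP.ncard ≡ Nat.card Ω [MOD 3] := by
    have := (hPp.card_modEq_card_fixedPoints Ω).symm
    rwa [Nat.card_coe_set_eq] at this
  by_cases hall : ∀ x ∈ (P : Subgroup G), x ≠ 1 → fixedBy Ω x = FP
  · left
    refine spe_of_fixed htrans P hP3 FP ⟨b0, hall x0 hx0P hx0ne ▸ hb0⟩ ?_ hall
    intro h
    have h1 := hfix x0 hx0ne
    rw [hall x0 hx0P hx0ne, h, Set.ncard_univ] at h1
    omega
  push Not at hall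
  obtain ⟨y0, hy0P, hy0ne, hy0⟩ := hall
  -- the maximal number of fixed points
  have hmod : ∀ x ∈ (P : Subgroup G), (fixedBy Ω x).ncard ≡ Nat.card Ω [MOD 3] := fun x hx => by
    obtain ⟨i, hi⟩ := pow_three_pow_of_mem hPp hx
    exact ncard_fixedBy_modEq hi
  set k := (fixedBy Ω y0).ncard with hk
  have hk4 : k ≤ 4 := hfix y0 hy0ne
  have hlt : FP.ncard < k :=
    Set.ncard_lt_ncard ⟨hFPsub y0 hy0P, fun h => hy0 (Set.Subset.antisymm h (hFPsub y0 hy0P))⟩
      (Set.toFinite _)
  have hkFP : FP.ncard + 3 = k := by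
    have h1 : FP.ncard ≡ k [MOD 3] := hFPmod.trans (hmod y0 hy0P).symm
    unfold Nat.ModEq at h1
    omega
  have hk34 : k = 3 ∨ k = 4 := by omega
  have hkmax : ∀ x : G, x ≠ 1 → (∃ i : ℕ, x ^ 3 ^ i = 1) → (fixedBy Ω x).ncard ≤ k := by
    intro x hx1 ⟨i, hi⟩
    have h1 := hfix x hx1
    have h2 : (fixedBy Ω x).ncard ≡ k [MOD 3] := (ncard_fixedBy_modEq hi).trans (hmod y0 hy0P).symm
    unfold Nat.ModEq at h2
    omega
  have heq : ∀ (x : G) (W : Set Ω), x ≠ 1 → (∃ i : ℕ, x ^ 3 ^ i = 1) → W.ncard = k →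
      (∀ b ∈ W, x • b = b) → fixedBy Ω x = W := by
    intro x W hx1 hx3 hW hsub
    exact (Set.eq_of_subset_of_ncard_le hsub (by rw [hW]; exact hkmax x hx1 hx3) (Set.toFinite _)).symm
  have hconjk : ∀ (g x : G), (fixedBy Ω (g * x * g⁻¹)).ncard = (fixedBy Ω x).ncard := by
    intro g x
    rw [fixedBy_conj]
    exact Set.ncard_image_of_injective _ (MulAction.injective g)
  have horder : ∀ x ∈ (P : Subgroup G), ∃ i : ℕ, x ^ 3 ^ i = 1 := fun x hx =>
    pow_three_pow_of_mem hPp hx
  by_cases hI : ∃ z0 ∈ (P : Subgroup G), z0 ≠ 1 ∧ (fixedBy Ω z0).ncard = k ∧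
      ∀ u ∈ (P : Subgroup G), Commute z0 u
  · obtain ⟨z0, hz0P, hz0ne, hz0k, hz0c⟩ := hI
    -- power of order three
    obtain ⟨z, hzP, hz, hzk, hzc⟩ : ∃ z ∈ (P : Subgroup G), orderOf z = 3 ∧
        (fixedBy Ω z).ncard = k ∧ ∀ u ∈ (P : Subgroup G), Commute z u := by
      obtain ⟨i, hi⟩ := horder z0 hz0P
      obtain ⟨j, hj, hj'⟩ := (Nat.dvd_prime_pow Nat.prime_three).mp (orderOf_dvd_of_pow_eq_one hi)
      rcases j with _ | j
      · exact absurd (orderOf_eq_one_iff.mp (by simpa using hj')) hz0ne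
      · have hm : orderOf (z0 ^ 3 ^ j) = 3 := by
          rw [orderOf_pow_of_dvd (by positivity) (by rw [hj']; exact pow_dvd_pow 3 j.le_succ), hj',
            Nat.pow_div j.le_succ (by norm_num)]
          simp
        refine ⟨z0 ^ 3 ^ j, Subgroup.pow_mem _ hz0P _, hm, ?_, fun u hu => (hz0c u hu).pow_left _⟩
        rw [heq (z0 ^ 3 ^ j) (fixedBy Ω z0) (fun h => by rw [h, orderOf_one] at hm; omega)
          (horder _ (Subgroup.pow_mem _ hz0P _)) hz0k
          (fun b hb => Subgroup.pow_mem (stabilizer G b) hb _)]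
        exact hz0k
    have hz1 : z ≠ 1 := by intro h; rw [h, orderOf_one] at hz; omega
    have hz3 : z ^ 3 = 1 := orderOf_dvd_iff_pow_eq_one.mp (dvd_of_eq hz)
    set Δ := fixedBy Ω z with hΔ
    set M := stabilizer G Δ with hM
    have hPM : (P : Subgroup G) ≤ M := fun u hu => mem_stabilizer_fixedBy (hzc u hu).symm
    obtain ⟨p, hpP, hpmove⟩ : ∃ p ∈ (P : Subgroup G), ∃ x ∈ Δ, p • x ≠ x := by
      by_contra hcon
      push Not at hcon
      have h1 : Δ ⊆ FP := fun b hb u => hcon u u.2 b hb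
      have := Set.ncard_le_ncard h1 (Set.toFinite _)
      omega
    obtain ⟨jp, hjp⟩ := horder p hpP
    obtain ⟨φ, hφ, -⟩ := exists_rot hfree Δ (by omega) p (hPM hpP) jp hjp hpmove
    have hker : ∀ x, ∀ hx : x ∈ M, (∃ i : ℕ, x ^ 3 ^ i = 1) → x ≠ 1 → φ ⟨x, hx⟩ = 1 →
        fixedBy Ω x = Δ := fun x hx ⟨i, hi⟩ hx1 h =>
      heq x Δ hx1 ⟨i, hi⟩ hzk ((hφ x hx i hi).mp h)
    have hout : ∀ x, ∀ hx : x ∈ M, (∃ i : ℕ, x ^ 3 ^ i = 1) → φ ⟨x, hx⟩ ≠ 1 →
        fixedBy Ω x ≠ Δ := fun x hx ⟨i, hi⟩ h hfx =>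
      h ((hφ x hx i hi).mpr (fun b hb => (hfx ▸ hb : b ∈ fixedBy Ω x)))
    have hzM : z ∈ M := hPM hzP
    have hφz : φ ⟨z, hzM⟩ = 1 := (hφ z hzM 1 (by simpa using hz3)).mpr (fun b hb => hb)
    by_cases hw : ∃ w, ∃ hw : w ∈ (P : Subgroup G),
        (fixedBy Ω w).ncard = k ∧ φ ⟨w, hPM hw⟩ ≠ 1
    · obtain ⟨w, hwP, hwk, hwφ⟩ := hw
      -- facts about an outside element of maximal type
      have hgood : ∀ w, ∀ hw : w ∈ (P : Subgroup G), (fixedBy Ω w).ncard = k →
          φ ⟨w, hPM hw⟩ ≠ 1 → orderOf w = 3 ∧ (∃ x ∈ fixedBy Ω w, z • x ≠ x) ∧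
          Nat.card ((P : Subgroup G) ⊓ Subgroup.centralizer {w} : Subgroup G) = 9 ∧
          ∀ x ∈ (P : Subgroup G) ⊓ Subgroup.centralizer {w},
            ∃ i j : ℕ, x = z ^ i * w ^ j := by
        intro w hwP hwk hwφ
        have hw1 : w ≠ 1 := by
          rintro rfl
          exact hwφ (map_one φ)
        have hne : fixedBy Ω w ≠ Δ := hout w (hPM hwP) (horder w hwP) hwφ
        have hwcube : φ ⟨w, hPM hwP⟩ ^ 3 = 1 := c3_cube _
        have hw3 : w ^ 3 = 1 := by
          by_contra hc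
          apply hne
          have hmem : w ^ 3 ∈ M := Subgroup.pow_mem _ (hPM hwP) _
          have h1 : fixedBy Ω (w ^ 3) = Δ :=
            hker _ hmem (horder _ (Subgroup.pow_mem _ hwP _)) hc (by
              rw [show (⟨w ^ 3, hmem⟩ : M) = ⟨w, hPM hwP⟩ ^ 3 from rfl, map_pow, hwcube])
          have h2 : fixedBy Ω (w ^ 3) = fixedBy Ω w :=
            heq _ _ hc (horder _ (Subgroup.pow_mem _ hwP _)) hwk
              (fun b hb => Subgroup.pow_mem (stabilizer G b) hb _)
          exact h2.symm.trans h1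
        have hwo : orderOf w = 3 := orderOf_eq_prime hw3 hw1
        have hmv : ∃ x ∈ fixedBy Ω w, z • x ≠ x := by
          by_contra hcon
          push Not at hcon
          exact hne (heq z (fixedBy Ω w) hz1 ⟨1, by simpa using hz3⟩ hwk hcon).symm
        set W := fixedBy Ω w with hW
        have hzW : z ∈ stabilizer G W := mem_stabilizer_fixedBy (hzc w hwP)
        obtain ⟨ψ, hψ, -⟩ := exists_rot hfree W (by omega) z hzW 1 (by simpa using hz3) hmv
        have hψz : ψ ⟨z, hzW⟩ ≠ 1 := fun h => by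
          obtain ⟨x, hx, hne⟩ := hmv
          exact hne ((hψ z hzW 1 (by simpa using hz3)).mp h x hx)
        have hgen := c3_gen
        have hdec : ∀ x ∈ (P : Subgroup G) ⊓ Subgroup.centralizer {w},
            ∃ i j : Fin 3, x = z ^ (i : ℕ) * w ^ (j : ℕ) := by
          rintro x ⟨hxP, hxC⟩
          have hxc : Commute x w := Subgroup.mem_centralizer_singleton_iff.mp hxC
          obtain ⟨j, hj⟩ := hgen _ (φ ⟨x, hPM hxP⟩) hwφ
          have hxW : x * (w ^ (j : ℕ))⁻¹ ∈ stabilizer G W :=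
            mem_stabilizer_fixedBy (hxc.mul_left ((Commute.refl w).pow_left _).inv_left)
          obtain ⟨i, hi⟩ := hgen _ (ψ ⟨_, hxW⟩) hψz
          refine ⟨i, j, ?_⟩
          set t := (z ^ (i : ℕ))⁻¹ * (x * (w ^ (j : ℕ))⁻¹) with ht
          have htP : t ∈ (P : Subgroup G) := Subgroup.mul_mem _
            (Subgroup.inv_mem _ (Subgroup.pow_mem _ hzP _))
            (Subgroup.mul_mem _ hxP (Subgroup.inv_mem _ (Subgroup.pow_mem _ hwP _)))
          have ht1 : t = 1 := by
            by_contra htne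
            have htW : t ∈ stabilizer G W := Subgroup.mul_mem _
              (Subgroup.inv_mem _ (Subgroup.pow_mem _ hzW _)) hxW
            have h1 : fixedBy Ω t = Δ := hker t (hPM htP) (horder t htP) htne (by
              have e1 : (⟨t, hPM htP⟩ : M) = (⟨z, hzM⟩ ^ (i : ℕ))⁻¹ *
                  (⟨x, hPM hxP⟩ * (⟨w, hPM hwP⟩ ^ (j : ℕ))⁻¹) := rfl
              rw [e1, map_mul, map_mul, map_inv, map_inv, map_pow, map_pow, hφz, one_pow, inv_one,
                one_mul, hj, mul_inv_cancel])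
            obtain ⟨l, hl⟩ := horder t htP
            have h2 : fixedBy Ω t = W := heq t W htne ⟨l, hl⟩ hwk ((hψ t htW l hl).mp (by
              have e1 : (⟨t, htW⟩ : stabilizer G W) = (⟨z, hzW⟩ ^ (i : ℕ))⁻¹ *
                  ⟨x * (w ^ (j : ℕ))⁻¹, hxW⟩ := rfl
              rw [e1, map_mul, map_inv, map_pow, hi, inv_mul_cancel]))
            exact hne (h2.symm.trans h1)
          rw [ht, inv_mul_eq_one] at ht1
          rw [ht1, inv_mul_cancel_right]
        refine ⟨hwo, hmv, ?_, fun x hx => by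
          obtain ⟨i, j, h⟩ := hdec x hx; exact ⟨i, j, h⟩⟩
        have hmemT : ∀ i j : ℕ, z ^ i * w ^ j ∈ (P : Subgroup G) ⊓ Subgroup.centralizer {w} := by
          intro i j
          refine ⟨Subgroup.mul_mem _ (Subgroup.pow_mem _ hzP _) (Subgroup.pow_mem _ hwP _), ?_⟩
          exact Subgroup.mem_centralizer_singleton_iff.mpr
            (((hzc w hwP).pow_left _).mul_left ((Commute.refl w).pow_left _))
        rw [← Nat.card_congr (Equiv.ofBijective
          (fun ij : Fin 3 × Fin 3 => (⟨z ^ (ij.1 : ℕ) * w ^ (ij.2 : ℕ), hmemT _ _⟩ :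
            ((P : Subgroup G) ⊓ Subgroup.centralizer {w} : Subgroup G))) ⟨?_, ?_⟩)]
        · simp
        · rintro ⟨i, j⟩ ⟨i', j'⟩ h
          have h' : z ^ (i : ℕ) * w ^ (j : ℕ) = z ^ (i' : ℕ) * w ^ (j' : ℕ) :=
            congrArg Subtype.val h
          have hpowinj := c3_powinj
          have hjj : j = j' := by
            apply hpowinj _ hwφ
            have e1 : (⟨z, hzM⟩ : M) ^ (i : ℕ) * ⟨w, hPM hwP⟩ ^ (j : ℕ) =
                ⟨z, hzM⟩ ^ (i' : ℕ) * ⟨w, hPM hwP⟩ ^ (j' : ℕ) := Subtype.ext (by simpa using h')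
            have := congrArg φ e1
            rw [map_mul, map_mul, map_pow, map_pow, map_pow, map_pow, hφz, one_pow, one_pow,
              one_mul, one_mul] at this
            exact this
          subst hjj
          have hii : i = i' := by
            apply hpowinj _ hψz
            have h'' := mul_right_cancel h'
            rw [← map_pow, ← map_pow]
            congr 1
            exact Subtype.ext (by simpa using h'')
          rw [hii]
        · rintro ⟨x, hx⟩
          obtain ⟨i, j, h⟩ := hdec x hx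
          exact ⟨(i, j), Subtype.ext h.symm⟩
      obtain ⟨hwo, hmv, hw9, -⟩ := hgood w hwP hwk hwφ
      by_cases hP9 : Nat.card P = 9
      · right
        refine ⟨hP9, fun x hx => ?_⟩
        have hcomm := IsPGroup.commutative_of_card_eq_prime_sq (p := 3)
          (G := (P : Subgroup G)) (by simpa using hP9)
        have hxc : x ∈ (P : Subgroup G) ⊓ Subgroup.centralizer {w} :=
          ⟨hx, Subgroup.mem_centralizer_singleton_iff.mpr
            (congrArg Subtype.val (hcomm ⟨x, hx⟩ ⟨w, hwP⟩) :)⟩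
        obtain ⟨i, j, rfl⟩ := (hgood w hwP hwk hwφ).2.2.2 x hxc
        have hw3 : w ^ 3 = 1 := orderOf_dvd_iff_pow_eq_one.mp (dvd_of_eq hwo)
        rw [((hzc w hwP).pow_pow i j).mul_pow, ← pow_mul, ← pow_mul, mul_comm i, mul_comm j,
          pow_mul, pow_mul, hz3, hw3, one_pow, one_pow, one_mul]
      exfalso
      have h27 : 27 ≤ Nat.card P := by
        obtain ⟨n, hn⟩ := hPp.exists_card_eq
        have h9 : 9 ≤ Nat.card P := by
          rw [← hw9]
          exact Nat.card_le_card_of_injective _ (Subgroup.inclusion_injective inf_le_left)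
        rcases n with _ | _ | _ | n
        · simp [hn] at h9
        · simp [hn] at h9
        · exact absurd (by simpa using hn) hP9
        · rw [hn]
          exact le_trans (by norm_num) (Nat.pow_le_pow_right (by norm_num) (by omega : 3 ≤ n + 3))
      -- kernel elements are not conjugate to outside elements
      have hnotconj : ∀ (w : G) (hwP : w ∈ (P : Subgroup G)), (fixedBy Ω w).ncard = k →
          φ ⟨w, hPM hwP⟩ ≠ 1 → ∀ (x : G) (hxP : x ∈ (P : Subgroup G)), φ ⟨x, hPM hxP⟩ = 1 →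
          ¬ IsConj x w := by
        intro w hwP hwk hwφ x hxP hxφ hcj
        obtain ⟨hwo, hmv, hw9, hwel⟩ := hgood w hwP hwk hwφ
        obtain ⟨g, hg⟩ := isConj_iff.mp hcj
        have hx1 : x ≠ 1 := by
          rintro rfl
          rw [mul_one, mul_inv_cancel] at hg
          rw [← hg, orderOf_one] at hwo; omega
        have hxΔ : fixedBy Ω x = Δ := hker x (hPM hxP) (horder x hxP) hx1 hxφ
        have hW : fixedBy Ω w = g • Δ := by rw [← hg, fixedBy_conj, hxΔ]
        set u := g⁻¹ * z * g with hu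
        have hux : Commute u x := by
          have h1 : x = g⁻¹ * w * g := by rw [← hg]; group
          rw [h1, hu]
          exact (Commute.conj_iff g⁻¹).mpr (hzc w hwP) |> (fun h => by simpa using h)
        have huM : u ∈ M := by
          have := mem_stabilizer_fixedBy (Ω := Ω) hux
          rwa [hxΔ] at this
        have hu3 : u ^ 3 ^ 1 = 1 := by
          have h0 := conj_pow (i := 3) (a := g⁻¹) (b := z)
          rw [inv_inv, hz3, mul_one, inv_mul_cancel] at h0
          simpa [hu] using h0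
        have huφ : φ ⟨u, huM⟩ ≠ 1 := by
          intro h
          obtain ⟨b, hb, hne⟩ := hmv
          apply hne
          rw [hW, Set.mem_smul_set_iff_inv_smul_mem] at hb
          have h1 := (hφ u huM 1 hu3).mp h _ hb
          rw [hu, mul_smul, mul_smul, smul_inv_smul] at h1
          exact smul_left_cancel _ h1
        have hR : IsPGroup 3 (Subgroup.closure ({x, u} : Set G)) := by
          obtain ⟨i, hi⟩ := horder x hxP
          have hx' : IsPGroup 3 (Subgroup.zpowers x) := hPp.to_le (Subgroup.zpowers_le.mpr hxP)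
          have hu' : IsPGroup 3 (Subgroup.zpowers u) := by
            rintro ⟨v, hv⟩
            obtain ⟨l, rfl⟩ := Subgroup.mem_zpowers_iff.mp hv
            refine ⟨1, Subtype.ext ?_⟩
            push_cast
            rw [← zpow_natCast, ← zpow_mul, mul_comm, zpow_mul, zpow_natCast]
            have h0 : u ^ 3 ^ 1 = 1 := hu3
            rw [show (u ^ 3 : G) = 1 by simpa using h0, one_zpow]
          have hn : Subgroup.zpowers u ≤ Subgroup.normalizer (Subgroup.zpowers x : Set G) := by
            rw [Subgroup.zpowers_le]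
            refine Subgroup.centralizer_le_normalizer (s := (Subgroup.zpowers x : Set G)) ?_
            intro v hv
            obtain ⟨l, rfl⟩ := Subgroup.mem_zpowers_iff.mp hv
            exact (hux.zpow_right l).eq.symm
          refine (hx'.to_sup_of_normal_left' hu' hn).to_le ?_
          rw [Subgroup.closure_le]
          rintro v (rfl | rfl)
          · exact Subgroup.mem_sup_left (Subgroup.mem_zpowers _)
          · exact Subgroup.mem_sup_right (Subgroup.mem_zpowers _)
        have hRM : Subgroup.closure ({x, u} : Set G) ≤ M := by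
          rw [Subgroup.closure_le]
          rintro v (rfl | rfl)
          · exact hPM hxP
          · exact huM
        obtain ⟨m, hm, hmP⟩ := conj_into P hPM hRM hR
        set x' := m * x * m⁻¹ with hx'
        set u' := m * u * m⁻¹ with hu'
        have hx'P : x' ∈ (P : Subgroup G) := hmP x (Subgroup.subset_closure (by simp))
        have hu'P : u' ∈ (P : Subgroup G) := hmP u (Subgroup.subset_closure (by simp))
        have hφx' : φ ⟨x', hPM hx'P⟩ = 1 := by
          rw [show (⟨x', hPM hx'P⟩ : M) = ⟨m, hm⟩ * ⟨x, hPM hxP⟩ * ⟨m, hm⟩⁻¹ from rfl, map_mul,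
            map_mul, map_inv, hxφ, mul_one, mul_inv_cancel]
        have hφu' : φ ⟨u', hPM hu'P⟩ ≠ 1 := by
          rwa [show (⟨u', hPM hu'P⟩ : M) = ⟨m, hm⟩ * ⟨u, huM⟩ * ⟨m, hm⟩⁻¹ from rfl, map_mul,
            map_mul, map_inv, mul_comm, ← mul_assoc, inv_mul_cancel, one_mul]
        have hu'c : Commute u' x' := (Commute.conj_iff m).mpr hux
        set T := (P : Subgroup G) ⊓ Subgroup.centralizer {x'} with hT
        have hT27 : 27 ∣ Nat.card T := by
          have hTp : IsPGroup 3 T := hPp.to_le inf_le_left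
          obtain ⟨n, hn⟩ := hTp.exists_card_eq
          suffices h : 9 < Nat.card T by
            rw [hn] at h ⊢
            refine pow_dvd_pow 3 (?_ : 3 ≤ n)
            by_contra hc
            have : 3 ^ n ≤ 3 ^ 2 := Nat.pow_le_pow_right (by norm_num) (by omega)
            omega
          by_cases hxz : x' ∈ Subgroup.zpowers z
          · obtain ⟨l, hl⟩ := Subgroup.mem_zpowers_iff.mp hxz
            have hTP : T = (P : Subgroup G) := inf_eq_left.mpr (fun v hv =>
              Subgroup.mem_centralizer_singleton_iff.mpr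
                (by rw [← hl]; exact ((hzc v hv).zpow_left l).eq.symm))
            rw [hTP]
            omega
          · have hzT : z ∈ T := ⟨hzP, Subgroup.mem_centralizer_singleton_iff.mpr (hzc x' hx'P)⟩
            set K : Subgroup T := (φ.comp (Subgroup.inclusion (inf_le_left.trans hPM : T ≤ M))).ker
              with hK
            have hzK : (⟨z, hzT⟩ : T) ∈ K := hφz
            have hxT : x' ∈ T := ⟨hx'P, Subgroup.mem_centralizer_singleton_iff.mpr rfl⟩
            have hxK : (⟨x', hxT⟩ : T) ∈ K := hφx'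
            have huT : u' ∈ T := ⟨hu'P, Subgroup.mem_centralizer_singleton_iff.mpr hu'c⟩
            have huK : (⟨u', huT⟩ : T) ∉ K := hφu'
            have hlt1 : Nat.card (Subgroup.zpowers (⟨z, hzT⟩ : T)) < Nat.card K := by
              refine lt_of_le_of_ne (Nat.card_mono (Set.toFinite _) (Subgroup.zpowers_le.mpr hzK))
                fun h => hxz ?_
              have := (Subgroup.eq_of_le_of_card_ge (Subgroup.zpowers_le.mpr hzK) h.ge).symm ▸ hxK
              obtain ⟨l, hl⟩ := Subgroup.mem_zpowers_iff.mp this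
              exact ⟨l, by simpa using congrArg Subtype.val hl⟩
            rw [Nat.card_zpowers, ← Subgroup.orderOf_coe, hz] at hlt1
            have hlt2 : Nat.card K < Nat.card T := by
              refine lt_of_le_of_ne K.card_le_card_group fun h => huK ?_
              rw [Subgroup.eq_top_of_card_eq K h]
              exact Subgroup.mem_top _
            obtain ⟨l, hl⟩ := (hTp.to_subgroup K).exists_card_eq
            rw [hl] at hlt1 hlt2
            have : 2 ≤ l := by
              by_contra hc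
              have : 3 ^ l ≤ 3 ^ 1 := Nat.pow_le_pow_right (by norm_num) (by omega)
              omega
            have : 3 ^ 2 ≤ 3 ^ l := Nat.pow_le_pow_right (by norm_num) this
            omega
        set c := g * m⁻¹ with hc
        have hcx : c * x' * c⁻¹ = w := by rw [hc, hx', ← hg]; group
        set C := Subgroup.centralizer ({w} : Set G) with hC
        have hTC : T.map (MulAut.conj c).toMonoidHom ≤ C := by
          rintro _ ⟨v, hv, rfl⟩
          rw [hC, Subgroup.mem_centralizer_singleton_iff]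
          show c * v * c⁻¹ * w = w * (c * v * c⁻¹)
          rw [← hcx]
          exact ((Commute.conj_iff c).mpr (Subgroup.mem_centralizer_singleton_iff.mp hv.2)).eq
        have hC27 : 27 ∣ Nat.card C := by
          refine hT27.trans ?_
          exact (dvd_of_eq (Nat.card_congr (T.equivMapOfInjective (MulAut.conj c).toMonoidHom
            (MulAut.conj c).injective).toEquiv)).trans (Subgroup.card_dvd_of_le hTC)
        -- a Sylow subgroup of the centraliser above `⟨z, w⟩`
        set E := (P : Subgroup G) ⊓ Subgroup.centralizer {w} with hE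
        have hEC : E ≤ C := inf_le_right
        obtain ⟨R, hR'⟩ := ((hPp.to_le (inf_le_left : E ≤ _)).of_equiv
          (Subgroup.subgroupOfEquivOfLe hEC).symm).exists_le_sylow
        have hR27 : 27 ∣ Nat.card (R : Subgroup C) := by
          simpa using R.pow_dvd_card_of_pow_dvd_card (n := 3) (by simpa using hC27)
        have hzE : z ∈ E := ⟨hzP, Subgroup.mem_centralizer_singleton_iff.mpr (hzc w hwP)⟩
        have hwE : w ∈ E := ⟨hwP, Subgroup.mem_centralizer_singleton_iff.mpr rfl⟩
        set R0 := (R : Subgroup C).map C.subtype with hR0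
        have hER : E ≤ R0 := fun v hv => ⟨⟨v, hEC hv⟩, hR' (Subgroup.mem_subgroupOf.mpr hv), rfl⟩
        have hR0p : IsPGroup 3 R0 := R.isPGroup'.map _
        have hR0C : ∀ v ∈ R0, Commute v w := by
          rintro _ ⟨v, -, rfl⟩
          exact Subgroup.mem_centralizer_singleton_iff.mp v.2
        have hR0card : Nat.card R0 = Nat.card (R : Subgroup C) :=
          Subgroup.card_map_of_injective C.subtype_injective
        haveI := hR0p.isNilpotent
        have hnormR : E.subgroupOf R0 < Subgroup.normalizer (E.subgroupOf R0 : Set R0) := by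
          refine Group.normalizerCondition_of_isNilpotent _ ?_
          rw [lt_top_iff_ne_top, ne_eq, Subgroup.subgroupOf_eq_top]
          intro h
          have h1 : 27 ∣ Nat.card E := by
            rw [le_antisymm hER h, hR0card]; exact hR27
          rw [hw9] at h1
          norm_num at h1
        obtain ⟨⟨r, hr⟩, hrN, hrE⟩ := SetLike.exists_of_lt hnormR
        have hrE' : r ∉ E := fun h => hrE h
        have hrz : r * z * r⁻¹ ∈ E := by
          have := (Subgroup.mem_normalizer_iff.mp hrN ⟨z, hER hzE⟩).mp hzE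
          exact this
        have hrw : r * w * r⁻¹ = w := by rw [(hR0C r hr).eq, mul_inv_cancel_right]
        obtain ⟨a1, b1, hab⟩ := hwel _ hrz
        have hmv2 := hmv
        set W := fixedBy Ω w with hWdef
        have hzW : z ∈ stabilizer G W := mem_stabilizer_fixedBy (hzc w hwP)
        have hwW : w ∈ stabilizer G W := mem_stabilizer_fixedBy (Commute.refl w)
        have hrW : r ∈ stabilizer G W := mem_stabilizer_fixedBy (hR0C r hr)
        obtain ⟨ψ, hψ, -⟩ := exists_rot hfree W (by omega) z hzW 1 (by simpa using hz3) hmv2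
        have hψz : ψ ⟨z, hzW⟩ ≠ 1 := fun h => by
          obtain ⟨b, hb, hne⟩ := hmv2
          exact hne ((hψ z hzW 1 (by simpa using hz3)).mp h b hb)
        have hw3 : w ^ 3 = 1 := orderOf_dvd_iff_pow_eq_one.mp (dvd_of_eq hwo)
        have hψw : ψ ⟨w, hwW⟩ = 1 := (hψ w hwW 1 (by simpa using hw3)).mpr (fun b hb => hb)
        have hpoweq : ∀ {t : G} (i : ℕ), t ^ 3 = 1 → t ^ i = t ^ (i % 3) := by
          intro t i ht
          exact pow_eq_pow_mod i ht
        have hza : z ^ a1 = z := by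
          have e1 : (⟨r, hrW⟩ * ⟨z, hzW⟩ * ⟨r, hrW⟩⁻¹ : stabilizer G W) =
              ⟨z, hzW⟩ ^ a1 * ⟨w, hwW⟩ ^ b1 := Subtype.ext (by simpa using hab)
          have h2 := congrArg ψ e1
          rw [map_mul, map_mul, map_inv, map_mul, map_pow, map_pow, hψw, one_pow, mul_one,
            mul_comm, ← mul_assoc, inv_mul_cancel, one_mul] at h2
          have h3 := c3_one
          have h4 := h3 _ hψz ⟨a1 % 3, Nat.mod_lt _ (by norm_num)⟩ (by
            have h5 : ψ ⟨z, hzW⟩ ^ 3 = 1 := by
              have := c3_cube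
              exact this _
            rw [← pow_eq_pow_mod a1 h5]; exact h2)
          rw [hpoweq a1 hz3, show a1 % 3 = 1 from h4, pow_one]
        rw [hza] at hab
        have hb1 : b1 % 3 = 1 ∨ b1 % 3 = 2 := by
          rcases (show b1 % 3 = 0 ∨ b1 % 3 = 1 ∨ b1 % 3 = 2 by omega) with h | h
          · exfalso
            rw [hpoweq b1 hw3, h, pow_zero, mul_one] at hab
            have hrc : Commute r z := mul_inv_eq_iff_eq_mul.mp hab
            have hrM : r ∈ M := mem_stabilizer_fixedBy hrc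
            set R1 := R0 ⊓ (M ⊓ Subgroup.centralizer {z}) with hR1
            have hER1 : E ≤ R1 := fun v hv => ⟨hER hv, hPM hv.1,
              Subgroup.mem_centralizer_singleton_iff.mpr (hzc v hv.1).eq.symm⟩
            have hrR1 : r ∈ R1 := ⟨hr, hrM, Subgroup.mem_centralizer_singleton_iff.mpr hrc⟩
            obtain ⟨m1, hm1, hmP1⟩ := conj_into P hPM (inf_le_right.trans inf_le_left : R1 ≤ M)
              (hR0p.to_le inf_le_left)
            set w1 := m1 * w * m1⁻¹ with hw1
            have hw1P : w1 ∈ (P : Subgroup G) := hmP1 w (hER1 hwE)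
            have hw1φ : φ ⟨w1, hPM hw1P⟩ ≠ 1 := by
              rwa [show (⟨w1, hPM hw1P⟩ : M) = ⟨m1, hm1⟩ * ⟨w, hPM hwP⟩ * ⟨m1, hm1⟩⁻¹ from rfl,
                map_mul, map_mul, map_inv, mul_comm, ← mul_assoc, inv_mul_cancel, one_mul]
            have h9' := (hgood w1 hw1P (by rw [hw1, hconjk]; exact hwk) hw1φ).2.2.1
            have hsub : R1.map (MulAut.conj m1).toMonoidHom ≤
                (P : Subgroup G) ⊓ Subgroup.centralizer {w1} := by
              rintro _ ⟨v, hv, rfl⟩
              exact ⟨hmP1 v hv, Subgroup.mem_centralizer_singleton_iff.mpr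
                ((Commute.conj_iff m1).mpr (hR0C v hv.1)).eq⟩
            have h1 := Subgroup.card_le_of_le hsub
            rw [← Nat.card_congr (R1.equivMapOfInjective (MulAut.conj m1).toMonoidHom
              (MulAut.conj m1).injective).toEquiv, h9'] at h1
            have h2 := Subgroup.eq_of_le_of_card_ge hER1 (by rw [hw9]; exact h1)
            exact hrE' (h2.symm ▸ hrR1)
          · exact h
        -- normalise to `r : z ↦ z w`
        obtain ⟨r1, hr1W, hr1z, hr1w⟩ : ∃ r1 : G, r1 ∈ stabilizer G W ∧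
            r1 * z * r1⁻¹ = z * w ∧ r1 * w * r1⁻¹ = w := by
          rw [hpoweq b1 hw3] at hab
          rcases hb1 with h | h <;> rw [h] at hab
          · exact ⟨r, hrW, by rwa [pow_one] at hab, hrw⟩
          · refine ⟨r⁻¹, Subgroup.inv_mem _ hrW, ?_, ?_⟩
            · have h1 : z = r⁻¹ * z * r * (r⁻¹ * w * r) ^ 2 := by
                calc z = r⁻¹ * (r * z * r⁻¹) * r := by group
                  _ = r⁻¹ * (z * w ^ 2) * r := by rw [hab]
                  _ = r⁻¹ * z * r * ((r⁻¹ * w * r) * (r⁻¹ * w * r)) := by rw [pow_two]; group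
                  _ = _ := by rw [← pow_two]
              have h2 : r⁻¹ * w * r = w := by
                rw [mul_assoc, ← (hR0C r hr).eq, inv_mul_cancel_left]
              rw [h2] at h1
              rw [inv_inv]
              calc r⁻¹ * z * r = r⁻¹ * z * r * w ^ 2 * w := by
                    rw [mul_assoc _ (w ^ 2), ← pow_succ, hw3, mul_one]
                _ = z * w := by rw [← h1]
            · rw [inv_inv, mul_assoc, ← (hR0C r hr).eq, inv_mul_cancel_left]
        -- `s : w ↦ w z⁻¹`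
        obtain ⟨s, hsz, hsw⟩ : ∃ s : G, s * z * s⁻¹ = z ∧ s * w * s⁻¹ = w * z⁻¹ := by
          haveI := hPp.isNilpotent
          have hnormP : E.subgroupOf (P : Subgroup G) <
              Subgroup.normalizer (E.subgroupOf (P : Subgroup G) : Set (P : Subgroup G)) := by
            refine Group.normalizerCondition_of_isNilpotent _ ?_
            rw [lt_top_iff_ne_top, ne_eq, Subgroup.subgroupOf_eq_top]
            intro h
            have h1 := Subgroup.card_le_of_le h
            rw [hw9] at h1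
            omega
          obtain ⟨⟨s, hs⟩, hsN, hsE⟩ := SetLike.exists_of_lt hnormP
          have hsE' : s ∉ E := fun h => hsE h
          have hsz : s * z * s⁻¹ = z := by rw [← (hzc s hs).eq, mul_inv_cancel_right]
          have hswE : s * w * s⁻¹ ∈ E := (Subgroup.mem_normalizer_iff.mp hsN ⟨w, hwP⟩).mp hwE
          obtain ⟨a2, b2, hab2⟩ := hwel _ hswE
          have hwb : w ^ b2 = w := by
            have e1 : (⟨s, hPM hs⟩ * ⟨w, hPM hwP⟩ * ⟨s, hPM hs⟩⁻¹ : M) =
                ⟨z, hzM⟩ ^ a2 * ⟨w, hPM hwP⟩ ^ b2 := Subtype.ext (by simpa using hab2)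
            have h2 := congrArg φ e1
            rw [map_mul, map_mul, map_inv, map_mul, map_pow, map_pow, hφz, one_pow, one_mul,
              mul_comm, ← mul_assoc, inv_mul_cancel, one_mul] at h2
            have h3 := c3_one
            have h4 := h3 _ hwφ ⟨b2 % 3, Nat.mod_lt _ (by norm_num)⟩ (by
              have h5 : φ ⟨w, hPM hwP⟩ ^ 3 = 1 := by
                have := c3_cube
                exact this _
              rw [← pow_eq_pow_mod b2 h5]; exact h2)
            rw [hpoweq b2 hw3, show b2 % 3 = 1 from h4, pow_one]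
          rw [hwb, hpoweq a2 hz3] at hab2
          have hz2 : z ^ 2 = z⁻¹ := by
            rw [eq_inv_iff_mul_eq_one, ← pow_succ]; exact hz3
          rcases (show a2 % 3 = 0 ∨ a2 % 3 = 1 ∨ a2 % 3 = 2 by omega) with h | h | h <;>
            rw [h] at hab2
          · rw [pow_zero, one_mul] at hab2
            exact absurd ⟨hs, Subgroup.mem_centralizer_singleton_iff.mpr
              (mul_inv_eq_iff_eq_mul.mp hab2)⟩ hsE'
          · refine ⟨s⁻¹, ?_, ?_⟩
            · rw [inv_inv, mul_assoc, (hzc s hs).eq, inv_mul_cancel_left]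
            · have h1 : w = s⁻¹ * (z ^ 1 * w) * s := by rw [← hab2]; group
              have h2 : s⁻¹ * z * s = z := by rw [mul_assoc, (hzc s hs).eq, inv_mul_cancel_left]
              rw [inv_inv]
              calc s⁻¹ * w * s = (s⁻¹ * z * s)⁻¹ * (s⁻¹ * (z ^ 1 * w) * s) := by group
                _ = z⁻¹ * w := by rw [h2, ← h1]
                _ = w * z⁻¹ := ((hzc w hwP).inv_left).eq
          · exact ⟨s, hsz, by rw [hab2, hz2, ((hzc w hwP).inv_left).eq]⟩
        -- the element inverting `z` and `w`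
        set J := r1 * s * r1 with hJ
        have hJz : J * z * J⁻¹ = w := by
          calc J * z * J⁻¹ = r1 * (s * (r1 * z * r1⁻¹) * s⁻¹) * r1⁻¹ := by rw [hJ]; group
            _ = r1 * ((s * z * s⁻¹) * (s * w * s⁻¹)) * r1⁻¹ := by rw [hr1z]; group
            _ = r1 * (z * (w * z⁻¹)) * r1⁻¹ := by rw [hsz, hsw]
            _ = r1 * w * r1⁻¹ := by
              rw [← mul_assoc z, (hzc w hwP).eq, mul_assoc w, mul_inv_cancel, mul_one]
            _ = w := hr1w
        have hJw : J * w * J⁻¹ = z⁻¹ := by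
          calc J * w * J⁻¹ = r1 * (s * (r1 * w * r1⁻¹) * s⁻¹) * r1⁻¹ := by rw [hJ]; group
            _ = r1 * (w * z⁻¹) * r1⁻¹ := by rw [hr1w, hsw]
            _ = (r1 * w * r1⁻¹) * (r1 * z * r1⁻¹)⁻¹ := by group
            _ = z⁻¹ := by rw [hr1w, hr1z, mul_inv_rev, mul_inv_cancel_left]
        have hgz : J * J * z * (J * J)⁻¹ = z⁻¹ := by
          calc J * J * z * (J * J)⁻¹ = J * (J * z * J⁻¹) * J⁻¹ := by group
            _ = z⁻¹ := by rw [hJz, hJw]
        have hgw : J * J * w * (J * J)⁻¹ = w⁻¹ := by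
          calc J * J * w * (J * J)⁻¹ = J * (J * w * J⁻¹) * J⁻¹ := by group
            _ = (J * z * J⁻¹)⁻¹ := by rw [hJw]; group
            _ = w⁻¹ := by rw [hJz]
        have hgM : J * J ∈ M := by
          rw [hM, mem_stabilizer_iff, hΔ, ← fixedBy_conj, hgz, fixedBy_inv]
        have e1 : (⟨_, hgM⟩ * ⟨w, hPM hwP⟩ * (⟨_, hgM⟩)⁻¹ : M) = ⟨w, hPM hwP⟩⁻¹ :=
          Subtype.ext (by simpa using hgw)
        have h2 := congrArg φ e1
        rw [map_mul, map_mul, map_inv, map_inv, mul_comm, ← mul_assoc, inv_mul_cancel, one_mul] at h2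
        have h3 := c3_inv
        exact hwφ (h3 _ h2)
      -- apply the core lemma to `w`
      have hconjw : ∀ y' ∈ (P : Subgroup G), IsConj w y' →
          Nat.card ((P : Subgroup G) ⊓ Subgroup.centralizer {y'} : Subgroup G) = 9 := by
        intro y' hy' hcj
        obtain ⟨g, hg⟩ := isConj_iff.mp hcj
        have hk' : (fixedBy Ω y').ncard = k := by rw [← hg, hconjk]; exact hwk
        by_cases hφ' : φ ⟨y', hPM hy'⟩ = 1
        · exact absurd hcj.symm (hnotconj w hwP hwk hwφ y' hy' hφ')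
        · exact (hgood y' hy' hk' hφ').2.2.1
      exact not_perfect_of_small_centralizer P w hwP hwo h27 hconjw
        (not_real hfree w z hwo hz (hzc w hwP) (by omega) hmv
          (not_twentyseven_dvd P w hwo (fun y' h1 h2 => (hconjw y' h1 h2).le))) hperf
    -- no outside element of maximal type
    exfalso
    push Not at hw
    have hpow : ∀ x, ∀ hx : x ∈ M, (∃ i : ℕ, x ^ 3 ^ i = 1) → (fixedBy Ω x).ncard = k →
        x ≠ 1 → φ ⟨x, hx⟩ = 1 := by
      intro x hx ⟨i, hi⟩ hxk hx1
      have hp : IsPGroup 3 (Subgroup.zpowers x) := by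
        rintro ⟨v, hv⟩
        obtain ⟨l, rfl⟩ := Subgroup.mem_zpowers_iff.mp hv
        refine ⟨i, Subtype.ext ?_⟩
        push_cast
        rw [← zpow_natCast, ← zpow_mul, mul_comm, zpow_mul, zpow_natCast, hi, one_zpow]
      obtain ⟨m, hm, hmP⟩ := conj_into P hPM (Subgroup.zpowers_le.mpr hx) hp
      have h1 := hw _ (hmP x (Subgroup.mem_zpowers x)) (by rw [hconjk]; exact hxk)
      rwa [show (⟨m * x * m⁻¹, hPM (hmP x (Subgroup.mem_zpowers x))⟩ : M) =
          ⟨m, hm⟩ * ⟨x, hx⟩ * ⟨m, hm⟩⁻¹ from rfl, map_mul, map_mul, map_inv, mul_comm,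
          ← mul_assoc, inv_mul_cancel, one_mul] at h1
    obtain ⟨b, hb, hbne⟩ := hpmove
    have hφp : φ ⟨p, hPM hpP⟩ ≠ 1 := fun h => hbne ((hφ p (hPM hpP) jp hjp).mp h b hb)
    refine not_perfect_of_unique_coset (M := M) (A := Multiplicative (ZMod 3)) c3_cube φ z p
      hzM (hPM hpP) hz3 (hzc p hpP) hφp ?_ ?_ hperf
    · intro g hg
      have h0 := conj_pow (i := 3) (a := g⁻¹) (b := z)
      rw [inv_inv, hz3, mul_one, inv_mul_cancel] at h0
      have hne : g⁻¹ * z * g ≠ 1 := by
        intro h; apply hz1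
        calc z = g * (g⁻¹ * z * g) * g⁻¹ := by group
          _ = 1 := by rw [h, mul_one, mul_inv_cancel]
      have hkk : (fixedBy Ω (g⁻¹ * z * g)).ncard = k := by
        have := hconjk g⁻¹ z
        rw [inv_inv] at this
        exact this.trans hzk
      have hf := hker _ hg ⟨1, by simpa using h0⟩ hne (hpow _ hg ⟨1, by simpa using h0⟩ hkk hne)
      have h1 := fixedBy_conj (Ω := Ω) g⁻¹ z
      rw [inv_inv, hf] at h1
      exact inv_mem_iff.mp (show g⁻¹ ∈ M from h1.symm)
    · intro g m hnot hm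
      rcases eq_or_ne (p ^ m) 1 with h | h
      · rw [show (⟨g⁻¹ * p ^ m * g, hm⟩ : M) = 1 from Subtype.ext (by simp [h]), map_one]
      have hmP : p ^ m ∈ (P : Subgroup G) := Subgroup.pow_mem _ hpP _
      by_cases hpm : φ ⟨p ^ m, hPM hmP⟩ = 1
      · have hk' : (fixedBy Ω (g⁻¹ * p ^ m * g)).ncard = k := by
          have := hconjk g⁻¹ (p ^ m)
          rw [inv_inv] at this
          rw [this, hker _ (hPM hmP) (horder _ hmP) h hpm]
          exact hzk
        have h0 : ∃ i, (g⁻¹ * p ^ m * g) ^ 3 ^ i = 1 := by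
          obtain ⟨i, hi⟩ := horder _ hmP
          refine ⟨i, ?_⟩
          have h2 := conj_pow (i := 3 ^ i) (a := g⁻¹) (b := p ^ m)
          rw [inv_inv, hi, mul_one, inv_mul_cancel] at h2
          exact h2
        refine hpow _ hm h0 hk' ?_
        intro h1
        apply h
        calc p ^ m = g * (g⁻¹ * p ^ m * g) * g⁻¹ := by group
          _ = 1 := by rw [h1, mul_one, mul_inv_cancel]
      · exfalso
        apply hnot
        -- `p` is a power of `p ^ m`
        have hm3 : ¬ 3 ∣ m := by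
          rintro ⟨l, rfl⟩
          apply hpm
          have := c3_cube
          rw [show (⟨p ^ (3 * l), hPM hmP⟩ : M) = ⟨p, hPM hpP⟩ ^ (3 * l) from rfl, map_pow,
            pow_mul, this, one_pow]
        have hcop : Nat.Coprime (orderOf p) m :=
          Nat.Coprime.coprime_dvd_left (orderOf_dvd_of_pow_eq_one hjp)
            (((Nat.prime_three.coprime_iff_not_dvd).mpr hm3).pow_left jp)
        obtain ⟨n, hn⟩ := exists_pow_eq_self_of_coprime hcop.symm
        have h2 := conj_pow (i := n) (a := g⁻¹) (b := p ^ m)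
        rw [inv_inv, hn] at h2
        rw [← h2]
        exact Subgroup.pow_mem _ hm n
  -- no central element of maximal type
  exfalso
  push Not at hI
  have hne : Nontrivial (P : Subgroup G) :=
    ⟨⟨⟨x0, hx0P⟩, 1, fun h => hx0ne (congrArg Subtype.val h)⟩⟩
  haveI := hPp.center_nontrivial
  obtain ⟨z, hzP, hz, hzc⟩ : ∃ z ∈ (P : Subgroup G), orderOf z = 3 ∧
      ∀ u ∈ (P : Subgroup G), Commute z u := by
    have hd : 3 ∣ Nat.card (Subgroup.center (P : Subgroup G)) := by
      obtain ⟨n, hn, hn'⟩ := ((hPp.to_subgroup _).nontrivial_iff_card).mp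
        (inferInstance : Nontrivial (Subgroup.center (P : Subgroup G)))
      rw [hn']; exact dvd_pow_self 3 hn.ne'
    obtain ⟨t, ht⟩ := exists_prime_orderOf_dvd_card' 3 hd
    refine ⟨((t : (P : Subgroup G)) : G), (t : (P : Subgroup G)).2,
      by rw [Subgroup.orderOf_coe, Subgroup.orderOf_coe, ht], fun u hu => ?_⟩
    exact (congrArg Subtype.val (Subgroup.mem_center_iff.mp t.2 ⟨u, hu⟩)).symm
  have hz1 : z ≠ 1 := by intro h; rw [h, orderOf_one] at hz; omega
  have hz3 : z ^ 3 = 1 := orderOf_dvd_iff_pow_eq_one.mp (dvd_of_eq hz)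
  have hgood : ∀ y ∈ (P : Subgroup G), y ≠ 1 → (fixedBy Ω y).ncard = k → orderOf y = 3 ∧
      (∃ x ∈ fixedBy Ω y, z • x ≠ x) ∧
      Nat.card ((P : Subgroup G) ⊓ Subgroup.centralizer {y} : Subgroup G) = 9 ∧
      27 ≤ Nat.card P := by
    intro y hyP hy1 hyk
    set W := fixedBy Ω y with hW
    have hzW : z ∈ stabilizer G W := mem_stabilizer_fixedBy (hzc y hyP)
    have hmv : ∃ x ∈ W, z • x ≠ x := by
      by_contra hcon
      push Not at hcon
      have h1 := heq z W hz1 ⟨1, by simpa using hz3⟩ hyk hcon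
      obtain ⟨u, hu, hu'⟩ := hI z hzP hz1 (by rw [h1]; exact hyk)
      exact hu' (hzc u hu)
    obtain ⟨ψ, hψ, -⟩ := exists_rot hfree W (by omega) z hzW 1 (by simpa using hz3) hmv
    have hψz : ψ ⟨z, hzW⟩ ≠ 1 := fun h => by
      obtain ⟨x, hx, hne⟩ := hmv
      exact hne ((hψ z hzW 1 (by simpa using hz3)).mp h x hx)
    set S := (P : Subgroup G) ⊓ stabilizer G W with hS
    set ψS : S →* Multiplicative (ZMod 3) := ψ.comp (Subgroup.inclusion inf_le_right) with hψS
    set K := ψS.ker with hK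
    have hyS : y ∈ S := ⟨hyP, mem_stabilizer_fixedBy (Commute.refl y)⟩
    have hzS : z ∈ S := ⟨hzP, hzW⟩
    obtain ⟨iy, hiy⟩ := horder y hyP
    have hyK : (⟨y, hyS⟩ : S) ∈ K := (hψ y hyS.2 iy hiy).mpr (fun b hb => hb)
    have hKfix : ∀ v : S, v ∈ K → (v : G) ≠ 1 → fixedBy Ω (v : G) = W := by
      intro v hv hv1
      obtain ⟨i, hi⟩ := horder v v.2.1
      exact heq v W hv1 ⟨i, hi⟩ hyk ((hψ v v.2.2 i hi).mp hv)
    have hSne : S ≠ (P : Subgroup G) := by
      intro hSP
      set K0 := (K.map S.subtype).subgroupOf (P : Subgroup G) with hK0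
      haveI : K0.Normal := by
        refine ⟨fun v hv u => ?_⟩
        obtain ⟨v', hv', hvv⟩ := hv
        have hu : (u : G) ∈ S := by rw [hSP]; exact u.2
        refine ⟨⟨u, hu⟩ * v' * ⟨u, hu⟩⁻¹, (inferInstance : K.Normal).conj_mem v' hv' _, ?_⟩
        show (u : G) * (v' : G) * (u : G)⁻¹ = ((u * v * u⁻¹ : (P : Subgroup G)) : G)
        rw [show (v' : G) = (v : G) from hvv]
        simp
      have hK0ne : K0 ≠ ⊥ := by
        intro h
        have : (⟨y, hyP⟩ : (P : Subgroup G)) ∈ K0 := ⟨⟨y, hyS⟩, hyK, rfl⟩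
        rw [h, Subgroup.mem_bot] at this
        exact hy1 (congrArg Subtype.val this)
      haveI := (Subgroup.nontrivial_iff_ne_bot K0).mpr hK0ne
      have hmeet := H6.inf_center_ne_bot hPp (N := K0) hK0ne
      obtain ⟨v, ⟨hvK, hvC⟩, hv1⟩ := (Subgroup.bot_or_exists_ne_one _).resolve_left hmeet
      obtain ⟨v', hv', hvv⟩ := hvK
      have hvv' : (v' : G) = (v : G) := hvv
      have hv1' : (v : G) ≠ 1 := fun h => hv1 (Subtype.ext h)
      have hvW := hKfix v' hv' (by rw [hvv']; exact hv1')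
      obtain ⟨u, hu, hu'⟩ := hI v v.2 hv1' (by rw [← hvv', hvW]; exact hyk)
      exact hu' (congrArg Subtype.val (Subgroup.mem_center_iff.mp hvC ⟨u, hu⟩)).symm
    haveI := hPp.isNilpotent
    have hnormP : S.subgroupOf (P : Subgroup G) <
        Subgroup.normalizer (S.subgroupOf (P : Subgroup G) : Set (P : Subgroup G)) := by
      refine Group.normalizerCondition_of_isNilpotent _ ?_
      rw [lt_top_iff_ne_top, ne_eq, Subgroup.subgroupOf_eq_top]
      exact fun h => hSne (le_antisymm inf_le_left h)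
    obtain ⟨⟨u, huP⟩, huN, huS⟩ := SetLike.exists_of_lt hnormP
    have huW : u • W ≠ W := fun h => huS ⟨huP, h⟩
    have huconj : ∀ v : S, u * v * u⁻¹ ∈ S := fun v =>
      (Subgroup.mem_normalizer_iff.mp huN ⟨v, v.2.1⟩).mp v.2
    have hψinj : ∀ v1 v2 : S, v1 ∈ K → v2 ∈ K →
        ψS ⟨_, huconj v1⟩ = ψS ⟨_, huconj v2⟩ → v1 = v2 := by
      intro v1 v2 h1 h2 h
      by_contra hne
      set d := v1 * v2⁻¹ with hd
      have hd1 : (d : G) ≠ 1 := by
        intro hc
        exact hne (mul_inv_eq_one.mp (Subtype.ext hc))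
      have hdW := hKfix d (K.mul_mem h1 (K.inv_mem h2)) hd1
      have hdK : (⟨_, huconj d⟩ : S) ∈ K := by
        rw [hK, MonoidHom.mem_ker,
          show (⟨_, huconj d⟩ : S) = ⟨_, huconj v1⟩ * (⟨_, huconj v2⟩ : S)⁻¹ from
            Subtype.ext (by simp [hd, mul_assoc]), map_mul, map_inv, h, mul_inv_cancel]
      have h4 := hKfix _ hdK (by simpa [conj_eq_one_iff] using hd1)
      rw [show ((⟨_, huconj d⟩ : S) : G) = u * d * u⁻¹ from rfl, fixedBy_conj, hdW] at h4
      exact huW h4
    have hK3 : Nat.card K ≤ 3 := by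
      have h := Nat.card_le_card_of_injective
        (fun v : K => ψS ⟨_, huconj (v : S)⟩)
        (fun v1 v2 h => Subtype.ext (hψinj _ _ v1.2 v2.2 h))
      simpa using h
    have hS9 : Nat.card S ≤ 9 := by
      have h1 := Subgroup.card_mul_index K
      rw [Subgroup.index_ker] at h1
      have h2 : Nat.card ψS.range ≤ 3 := by
        have := ψS.range.card_le_card_group
        simpa using this
      rw [← h1]
      calc Nat.card K * Nat.card ψS.range ≤ 3 * 3 := Nat.mul_le_mul hK3 h2
        _ = 9 := by norm_num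
    have hyo : orderOf y = 3 := by
      obtain ⟨i, hi, hi'⟩ := (Nat.dvd_prime_pow Nat.prime_three).mp (orderOf_dvd_of_pow_eq_one hiy)
      have hdvd := orderOf_dvd_natCard (⟨⟨y, hyS⟩, hyK⟩ : K)
      rw [← Subgroup.orderOf_coe, ← Subgroup.orderOf_coe] at hdvd
      have h2 := Nat.le_of_dvd Nat.card_pos hdvd
      rcases i with _ | _ | i
      · exact absurd (orderOf_eq_one_iff.mp (by simpa using hi')) hy1
      · simpa using hi'
      · have h2' : orderOf y ≤ 3 := le_trans h2 hK3
        rw [hi'] at h2'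
        have : 3 ^ 2 ≤ 3 ^ (i + 1 + 1) := Nat.pow_le_pow_right (by norm_num) (by omega)
        omega
    have hCS : (P : Subgroup G) ⊓ Subgroup.centralizer {y} ≤ S := fun v hv =>
      ⟨hv.1, mem_stabilizer_fixedBy (Subgroup.mem_centralizer_singleton_iff.mp hv.2)⟩
    set T := (P : Subgroup G) ⊓ Subgroup.centralizer {y} with hT
    obtain ⟨n, hn⟩ := (hPp.to_le (inf_le_left : T ≤ _)).exists_card_eq
    have hT3 : 3 < Nat.card T := by
      have hzT : z ∈ T := ⟨hzP, Subgroup.mem_centralizer_singleton_iff.mpr (hzc y hyP)⟩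
      have hyT : y ∈ T := ⟨hyP, Subgroup.mem_centralizer_singleton_iff.mpr rfl⟩
      rcases lt_or_ge 3 (Nat.card T) with h | h
      · exact h
      · exfalso
        have h6 := Subgroup.eq_of_le_of_card_ge (Subgroup.zpowers_le.mpr hyT)
          (by rw [Nat.card_zpowers, hyo]; exact h)
        obtain ⟨l, hl⟩ := Subgroup.mem_zpowers_iff.mp (h6.symm ▸ hzT)
        obtain ⟨x, hx, hne⟩ := hmv
        exact hne (hl ▸ Subgroup.zpow_mem (stabilizer G x) hx l)
    have hT9 : Nat.card T ≤ 9 := (Subgroup.card_le_of_le hCS).trans hS9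
    have hTeq : Nat.card T = 9 := by
      rw [hn] at hT3 hT9 ⊢
      have h2 : 2 ≤ n := by
        by_contra hc
        have : 3 ^ n ≤ 3 ^ 1 := Nat.pow_le_pow_right (by norm_num) (by omega)
        omega
      have h3 : n ≤ 2 := by
        by_contra hc
        have : 3 ^ 3 ≤ 3 ^ n := Nat.pow_le_pow_right (by norm_num) (by omega)
        omega
      rw [le_antisymm h3 h2]; norm_num
    refine ⟨hyo, hmv, hTeq, ?_⟩
    obtain ⟨l, hl⟩ := hPp.exists_card_eq
    have hlt : Nat.card S < Nat.card P :=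
      lt_of_le_of_ne (Subgroup.card_le_of_le inf_le_left)
        fun h => hSne (Subgroup.eq_of_le_of_card_ge inf_le_left h.ge)
    have h9S : 9 ≤ Nat.card S := hTeq ▸ Subgroup.card_le_of_le hCS
    rw [hl] at hlt ⊢
    have : 3 ≤ l := by
      by_contra hc
      have : 3 ^ l ≤ 3 ^ 2 := Nat.pow_le_pow_right (by norm_num) (by omega)
      omega
    exact le_trans (by norm_num) (Nat.pow_le_pow_right (by norm_num) this)
  obtain ⟨hyo, hmv, -, h27⟩ := hgood y0 hy0P hy0ne hk.symm
  have hconjy : ∀ y' ∈ (P : Subgroup G), IsConj y0 y' →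
      Nat.card ((P : Subgroup G) ⊓ Subgroup.centralizer {y'} : Subgroup G) = 9 := by
    intro y' hy' hcj
    obtain ⟨g, hg⟩ := isConj_iff.mp hcj
    refine (hgood y' hy' ?_ ?_).2.2.1
    · rw [← hg, ne_eq, conj_eq_one_iff]; exact hy0ne
    · rw [← hg, hconjk]
  exact not_perfect_of_small_centralizer P y0 hy0P hyo h27 hconjy
    (not_real hfree y0 z hyo hz (hzc y0 hy0P) (by rw [← hk]; omega) hmv
      (not_twentyseven_dvd P y0 hyo (fun y' h1 h2 => (hconjy y' h1 h2).le))) hperf

end H70.Fix4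

namespace H70.Fix4

open MulAction

/-- A perfect group acting faithfully on at most four points is trivial. -/
theorem five_le_card {G Ω : Type*} [Group G] [Finite G] [Finite Ω] [MulAction G Ω]
    [FaithfulSMul G Ω] [Nontrivial G] (hperf : commutator G = ⊤) : 5 ≤ Nat.card Ω := by
  classical
  by_contra hlt
  haveI : Fintype Ω := Fintype.ofFinite Ω
  haveI : Group.IsSolvable (Equiv.Perm (Fin 4)) := by
    rw [Group.isSolvable_def]
    refine ⟨3, ?_⟩
    let A : Subgroup (Equiv.Perm (Fin 4)) := MonoidHom.ker Equiv.Perm.sign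
    let V : Subgroup (Equiv.Perm (Fin 4)) :=
      { carrier := {σ | Equiv.Perm.sign σ = 1 ∧ rot σ = 0}
        one_mem' := ⟨map_one _, rot_one⟩
        mul_mem' := fun {a b} ha hb => ⟨by rw [map_mul, ha.1, hb.1, one_mul],
          by rw [rot_mul _ _ ha.1 hb.1, ha.2, hb.2, add_zero]⟩
        inv_mem' := fun {a} ha => ⟨by rw [map_inv, ha.1, inv_one], by
          have h1 : Equiv.Perm.sign a⁻¹ = 1 := by rw [map_inv, ha.1, inv_one]
          have h2 := rot_mul a a⁻¹ ha.1 h1
          rw [mul_inv_cancel, rot_one, ha.2, zero_add] at h2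
          exact h2.symm⟩ }
    have h1 : derivedSeries (Equiv.Perm (Fin 4)) 1 ≤ A := by
      rw [derivedSeries_one]
      exact Abelianization.commutator_subset_ker _
    have h2 : derivedSeries (Equiv.Perm (Fin 4)) 2 ≤ V := by
      rw [derivedSeries_succ, Subgroup.commutator_le]
      intro x hx y hy
      have hsx : Equiv.Perm.sign x = 1 := h1 hx
      have hsy : Equiv.Perm.sign y = 1 := h1 hy
      have hx' : Equiv.Perm.sign x⁻¹ = 1 := by rw [map_inv, hsx, inv_one]
      have hy' : Equiv.Perm.sign y⁻¹ = 1 := by rw [map_inv, hsy, inv_one]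
      have hxy : Equiv.Perm.sign (x * y) = 1 := by rw [map_mul, hsx, hsy, one_mul]
      have hxyx : Equiv.Perm.sign (x * y * x⁻¹) = 1 := by rw [map_mul, hxy, hx', one_mul]
      refine ⟨by rw [commutatorElement_def, map_mul, hxyx, hy', one_mul], ?_⟩
      rw [commutatorElement_def, rot_mul _ _ hxyx hy', rot_mul _ _ hxy hx', rot_mul _ _ hsx hsy]
      have e1 := rot_mul x x⁻¹ hsx hx'
      have e2 := rot_mul y y⁻¹ hsy hy'
      rw [mul_inv_cancel, rot_one] at e1 e2
      linear_combination -e1 - e2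
    rw [derivedSeries_succ, eq_bot_iff, Subgroup.commutator_le]
    intro x hx y hy
    have hsq : ∀ v ∈ V, v * v = 1 := fun v hv => rot_zero v hv.1 hv.2
    have hxy := hsq _ (V.mul_mem (h2 hx) (h2 hy))
    rw [Subgroup.mem_bot, commutatorElement_def, inv_eq_of_mul_eq_one_right (hsq x (h2 hx)),
      inv_eq_of_mul_eq_one_right (hsq y (h2 hy))]
    calc x * y * x * y = (x * y) * (x * y) := by group
      _ = 1 := hxy
  obtain ⟨e⟩ : Nonempty (Ω ↪ Fin 4) := Function.Embedding.nonempty_of_card_le (by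
    rw [Fintype.card_fin, ← Nat.card_eq_fintype_card]; omega)
  have hinj : Function.Injective ((Equiv.Perm.viaEmbeddingHom e).comp (toPermHom G Ω)) :=
    (Equiv.Perm.viaEmbeddingHom_injective e).comp MulAction.toPerm_injective
  obtain ⟨n, hn⟩ := (Group.isSolvable_def G).mp (Group.isSolvable_of_isSolvable_injective hinj)
  have : ∀ m, derivedSeries G m = ⊤ := by
    intro m
    induction m with
    | zero => rfl
    | succ m ih => rw [derivedSeries_succ, ih]; exact hperf
  exact top_ne_bot ((this n).symm.trans hn)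

end H70.Fix4
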