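import Mathlib

/-!
Finite facts on even permutations of at most four points: the hom `A₄ → C₃`.
-/

set_option autoImplicit false

namespace H70.Fix4

open Equiv

/-- Rotation number of an even permutation of four points on the three pairings. -/
def rot (σ : Perm (Fin 4)) : ZMod 3 := ((((σ 0).val ^^^ (σ 1).val) - 1 : ℕ) : ZMod 3)

theorem rot_mul : ∀ σ τ : Perm (Fin 4), Perm.sign σ = 1 → Perm.sign τ = 1 →
    rot (σ * τ) = rot σ + rot τ := by
  decide +kernel

theorem rot_zero : ∀ σ : Perm (Fin 4), Perm.sign σ = 1 → rot σ = 0 → σ * σ = 1 := by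
  decide +kernel

theorem rot_one : rot 1 = 0 := by decide +kernel

theorem rot_three : ∀ π : Perm (Fin 4), π * π * π = 1 → π ≠ 1 →
    Perm.sign π = 1 ∧ rot π ≠ 0 := by
  decide +kernel

theorem commute_three : ∀ σ π : Perm (Fin 4), Perm.sign σ = 1 → π * π * π = 1 → π ≠ 1 →
    σ * π = π * σ → σ = 1 ∨ σ = π ∨ σ = π * π := by
  decide +kernel

set_option synthInstance.maxSize 2000 in
theorem fixed_of_odd4 : ∀ σ π : Perm (Fin 4), Perm.sign σ = -1 → π * π * π = 1 → π ≠ 1 →
    ∃ x : Fin 4, σ x = x ∨ σ (π x) = x ∨ σ (π (π x)) = x := by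
  decide +kernel

set_option synthInstance.maxSize 2000 in
theorem fixed_of_odd3 : ∀ σ π : Perm (Fin 3), Perm.sign σ = -1 → π * π * π = 1 → π ≠ 1 →
    ∃ x : Fin 3, σ x = x ∨ σ (π x) = x ∨ σ (π (π x)) = x := by
  decide +kernel

/-- On `ZMod 3 × ZMod 3`: a nonempty set without zero, without opposite pairs and with
sum zero is the fibre over `1` of a linear form. -/
theorem plane_set : ∀ Y : ZMod 3 → ZMod 3 → Bool, Y 0 0 = false →
    (∀ i j, Y i j = true → Y (-i) (-j) = false) → (∃ i j, Y i j = true) →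
    (∑ i, ∑ j, if Y i j then (i, j) else (0, 0)) = (0, 0) →
    ∃ a b : ZMod 3, ∀ i j, (Y i j = true ↔ a * i + b * j = 1) := by
  decide +kernel

theorem zmod3_units : ∀ k : ZMod 3, k ≠ 0 → k = 1 ∨ -k = 1 := by decide

theorem c3_cube : ∀ t : Multiplicative (ZMod 3), t ^ 3 = 1 := by decide

theorem c3_gen : ∀ t s : Multiplicative (ZMod 3), t ≠ 1 → ∃ i : Fin 3, s = t ^ (i : ℕ) := by
  decide

theorem c3_powinj : ∀ t : Multiplicative (ZMod 3), t ≠ 1 → ∀ a b : Fin 3,
    t ^ (a : ℕ) = t ^ (b : ℕ) → a = b := by decide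

theorem c3_one : ∀ t : Multiplicative (ZMod 3), t ≠ 1 → ∀ i : Fin 3,
    t = t ^ (i : ℕ) → (i : ℕ) = 1 := by decide

theorem c3_inv : ∀ t : Multiplicative (ZMod 3), t = t⁻¹ → t = 1 := by decide

end H70.Fix4
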