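import Mathlib
import Cfsg.Agent.H5.Fusion
import Cfsg.Agent.H70.Fix4.ZeroPerm

/-!
Transfer arguments for `3`-groups with small element centralisers.
-/

set_option autoImplicit false

namespace H70.Fix4

open MulAction Finset

variable {G : Type*} [Group G]

open scoped Classical in
/-- The transfer evaluated through fixed cosets only. -/
noncomputable def coWeight {H : Subgroup G} {A : Type*} [CommGroup A] (φ : H →* A) (g : G)
    (q : G ⧸ H) : A :=
  if h : q.out⁻¹ * g * q.out ∈ H then φ ⟨_, h⟩ else 1

theorem fixed_iff_out {H : Subgroup G} (g : G) (q : G ⧸ H) :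
    g • q = q ↔ q.out⁻¹ * g * q.out ∈ H := by
  conv_lhs => rw [← QuotientGroup.out_eq' q, MulAction.Quotient.smul_mk, QuotientGroup.eq]
  rw [← H.inv_mem_iff]
  simp [mul_assoc]

theorem transfer_eq_prod_fixed [Finite G] {H : Subgroup G} [Fintype (G ⧸ H)] {A : Type*}
    [CommGroup A] (φ : H →* A) (g : G)
    (h : ∀ q : G ⧸ H, g • q ≠ q →
      ∀ hm : q.out⁻¹ * g ^ Function.minimalPeriod (g • ·) q * q.out ∈ H, φ ⟨_, hm⟩ = 1) :
    MonoidHom.transfer φ g = ∏ q : G ⧸ H, coWeight φ g q := by
  classical
  haveI : Fintype (Quotient (orbitRel (Subgroup.zpowers g) (G ⧸ H))) :=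
    Fintype.ofFinite _
  rw [MonoidHom.transfer_eq_prod_quotient_orbitRel_zpowers_quot,
    ← Finset.prod_fiberwise (Finset.univ : Finset (G ⧸ H))
      (fun q => (Quotient.mk'' q : Quotient (orbitRel (Subgroup.zpowers g) (G ⧸ H))))
      (fun q => coWeight φ g q)]
  refine Finset.prod_congr rfl fun o _ => ?_
  have ho : (Quotient.mk'' o.out : Quotient (orbitRel (Subgroup.zpowers g) (G ⧸ H))) = o :=
    Quotient.out_eq' o
  have hstep : ∀ (q : G ⧸ H), Quotient.mk'' q = o → g • q = q → q = o.out := by
    intro q hq hfix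
    obtain ⟨⟨k, hk⟩, hkq⟩ := (Quotient.eq''.mp (ho.trans hq.symm) :
      (orbitRel (Subgroup.zpowers g) (G ⧸ H)).r o.out q)
    obtain ⟨j, rfl⟩ := Subgroup.mem_zpowers_iff.mp hk
    have h1 : (g ^ j) • q = q := by
      have h0 : g ∈ stabilizer G q := hfix
      exact Subgroup.zpow_mem _ h0 j
    rw [← hkq]
    exact h1.symm
  by_cases hfix : g • o.out = o.out
  · have hper : Function.minimalPeriod (g • ·) o.out = 1 :=
      Function.minimalPeriod_eq_one_iff_isFixedPt.mpr hfix
    rw [Finset.prod_eq_single o.out]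
    · rw [coWeight, dif_pos ((fixed_iff_out g _).mp hfix)]
      simp only [hper, pow_one]
    · intro q hq hne
      simp only [Finset.mem_filter, Finset.mem_univ, true_and] at hq
      rw [coWeight, dif_neg]
      intro hm
      exact hne (hstep q hq ((fixed_iff_out g _).mpr hm))
    · intro hn; exact absurd (by simp [ho]) hn
  · rw [h o.out hfix, Finset.prod_eq_one]
    intro q hq
    simp only [Finset.mem_filter, Finset.mem_univ, true_and] at hq
    rw [coWeight, dif_neg]
    intro hm
    have hq2 := (fixed_iff_out g _).mpr hm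
    exact hfix (hstep q hq hq2 ▸ hq2)

/-- A function on a finite set invariant under a permutation of order three without fixed points
has product killed in exponent three. -/
theorem prod_eq_one_of_three {α A : Type*} [CommGroup A] [DecidableEq α]
    (hA : ∀ a : A, a ^ 3 = 1) (σ : α → α) (f : α → A) (hσ : ∀ x, σ (σ (σ x)) = x)
    (hf : ∀ x, f (σ x) = f x) :
    ∀ s : Finset α, (∀ x ∈ s, σ x ∈ s) → (∀ x ∈ s, σ x ≠ x) → ∏ x ∈ s, f x = 1 := by
  intro s
  induction s using Finset.strongInduction with
  | H s ih =>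
    intro hc hne
    rcases s.eq_empty_or_nonempty with rfl | ⟨x, hx⟩
    · simp
    · have h1 : σ x ≠ x := hne x hx
      have h2 : σ (σ x) ≠ σ x := hne _ (hc x hx)
      have h3 : σ (σ x) ≠ x := by
        intro h
        have := hσ x
        rw [h] at this
        exact h1 this
      have hsub : ({x, σ x, σ (σ x)} : Finset α) ⊆ s := by
        intro y hy
        simp only [Finset.mem_insert, Finset.mem_singleton] at hy
        rcases hy with rfl | rfl | rfl
        · exact hx
        · exact hc x hx
        · exact hc _ (hc x hx)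
      rw [← Finset.prod_sdiff hsub, ih]
      · rw [one_mul, Finset.prod_insert, Finset.prod_insert, Finset.prod_singleton, hf (σ x), hf x,
          ← mul_assoc, ← pow_two, ← pow_succ]
        · exact hA _
        · simpa using h2.symm
        · simpa [not_or] using ⟨h1.symm, h3.symm⟩
      · exact Finset.sdiff_ssubset hsub (by simp)
      · intro y hy
        simp only [Finset.mem_sdiff, Finset.mem_insert, Finset.mem_singleton, not_or] at hy ⊢
        refine ⟨hc y hy.1, ?_, ?_, ?_⟩
        · intro h
          have := hσ y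
          rw [h] at this
          exact hy.2.2.2 this.symm
        · intro h
          have := hσ y
          rw [h, hσ x] at this
          exact hy.2.1 this.symm
        · intro h
          have := hσ y
          rw [h, hσ x] at this
          exact hy.2.2.1 this.symm
      · intro y hy
        exact hne y (Finset.mem_sdiff.mp hy).1

/-- `z` fixes only the base coset and commutes with `x`: the transfer of `x` is `φ x`. -/
theorem not_perfect_of_unique_coset [Finite G] {M : Subgroup G} {A : Type*} [CommGroup A]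
    (hA : ∀ a : A, a ^ 3 = 1) (φ : M →* A) (z x : G) (hzM : z ∈ M) (hxM : x ∈ M)
    (hz3 : z ^ 3 = 1) (hzx : Commute z x) (hφ : φ ⟨x, hxM⟩ ≠ 1)
    (huniq : ∀ g : G, g⁻¹ * z * g ∈ M → g ∈ M)
    (hlong : ∀ g : G, ∀ m : ℕ, g⁻¹ * x * g ∉ M → ∀ hm : g⁻¹ * x ^ m * g ∈ M, φ ⟨_, hm⟩ = 1) :
    commutator G ≠ ⊤ := by
  classical
  intro hperf
  haveI : Fintype (G ⧸ M) := Fintype.ofFinite _
  have hV : MonoidHom.transfer φ x = 1 := by
    have h : x ∈ (MonoidHom.transfer φ).ker :=
      Abelianization.commutator_subset_ker _ (hperf ▸ Subgroup.mem_top x)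
    exact h
  rw [transfer_eq_prod_fixed φ x] at hV
  swap
  · intro q hq hm
    refine hlong q.out _ ?_ hm
    rw [← fixed_iff_out]
    exact hq
  set q0 : G ⧸ M := QuotientGroup.mk 1 with hq0
  have hzfix : ∀ q : G ⧸ M, z • q = q → q = q0 := by
    intro q hq
    have h1 := huniq q.out ((fixed_iff_out z q).mp hq)
    rw [← QuotientGroup.out_eq' q, hq0, QuotientGroup.eq]
    simpa using h1
  have hout : q0.out ∈ M := by
    have h := QuotientGroup.eq.mp (QuotientGroup.out_eq' q0)
    simpa [hq0] using h
  have hw0 : coWeight φ x q0 = φ ⟨x, hxM⟩ := by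
    have hm : q0.out⁻¹ * x * q0.out ∈ M := M.mul_mem (M.mul_mem (M.inv_mem hout) hxM) hout
    rw [coWeight, dif_pos hm]
    have : (⟨_, hm⟩ : M) = (⟨q0.out, hout⟩ : M)⁻¹ * ⟨x, hxM⟩ * ⟨q0.out, hout⟩ := Subtype.ext rfl
    rw [this, map_mul, map_mul, map_inv, mul_comm, ← mul_assoc, mul_inv_cancel, one_mul]
  have hinv : ∀ q : G ⧸ M, coWeight φ x (z • q) = coWeight φ x q := by
    intro q
    obtain ⟨h, hh⟩ : ∃ h : M, (z • q).out = z * q.out * h := by
      have h1 : (z • q) = QuotientGroup.mk (z * q.out) := by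
        conv_lhs => rw [← QuotientGroup.out_eq' q, MulAction.Quotient.smul_mk, smul_eq_mul]
      obtain ⟨h, hh⟩ := QuotientGroup.mk_out_eq_mul M (z * q.out)
      exact ⟨h, by rw [h1, hh]⟩
    have hconj : (z • q).out⁻¹ * x * (z • q).out =
        (h : G)⁻¹ * (q.out⁻¹ * x * q.out) * h := by
      rw [hh]
      have : z⁻¹ * x * z = x := by rw [mul_assoc, ← hzx.eq, inv_mul_cancel_left]
      calc (z * q.out * h)⁻¹ * x * (z * q.out * h)
          = (h : G)⁻¹ * (q.out⁻¹ * (z⁻¹ * x * z) * q.out) * h := by group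
        _ = _ := by rw [this]
    by_cases hm : q.out⁻¹ * x * q.out ∈ M
    · have hm' : (z • q).out⁻¹ * x * (z • q).out ∈ M := by
        rw [hconj]; exact M.mul_mem (M.mul_mem (M.inv_mem h.2) hm) h.2
      rw [coWeight, dif_pos hm', coWeight, dif_pos hm]
      have : (⟨_, hm'⟩ : M) = h⁻¹ * ⟨_, hm⟩ * h := Subtype.ext hconj
      rw [this, map_mul, map_mul, map_inv, mul_comm, ← mul_assoc, mul_inv_cancel, one_mul]
    · rw [coWeight, dif_neg, coWeight, dif_neg hm]
      rw [hconj]
      intro hc
      apply hm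
      have := M.mul_mem (M.mul_mem h.2 hc) (M.inv_mem h.2)
      simpa [mul_assoc] using this
  have hrest : ∏ q ∈ Finset.univ.erase q0, coWeight φ x q = 1 := by
    have hz0 : z • q0 = q0 := by
      rw [hq0, MulAction.Quotient.smul_mk, smul_eq_mul, mul_one, QuotientGroup.eq]
      simpa using hzM
    refine prod_eq_one_of_three hA (fun q => z • q) _ ?_ hinv _ ?_ ?_
    · intro q; simp only [smul_smul]; rw [← pow_three, hz3, one_smul]
    · intro q hq
      simp only [Finset.mem_erase, Finset.mem_univ, and_true] at hq ⊢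
      intro h
      apply hq
      exact smul_left_cancel z (h.trans hz0.symm)
    · intro q hq h
      exact (Finset.mem_erase.mp hq).1 (hzfix q h)
  rw [← Finset.mul_prod_erase Finset.univ _ (Finset.mem_univ q0), hrest, mul_one, hw0] at hV
  exact hφ hV

end H70.Fix4
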