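import Cfsg.Agent.H70.Fix4.ZeroBasic
import Cfsg.Agent.H6.Basic

/-!
A Sylow `3`-subgroup containing a non-real element of order `3` all of whose conjugates in it
have centraliser of order `9`: the group is not perfect (as soon as the Sylow order is at least 27).
-/

set_option autoImplicit false

namespace H70.Fix4

open MulAction Finset

variable {G : Type*} [Group G] [Finite G]

theorem card_orbit_mul_stab {H α : Type*} [Group H] [MulAction H α] (b : α) :
    Nat.card (orbit H b) * Nat.card (stabilizer H b) = Nat.card H := by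
  rw [← Nat.card_prod]
  exact Nat.card_congr (orbitProdStabilizerEquivGroup H b)

/-- `27` does not divide the order of the centraliser. -/
theorem not_twentyseven_dvd (P : Sylow 3 G) (y : G) (hy : orderOf y = 3)
    (h9 : ∀ y' ∈ (P : Subgroup G), IsConj y y' →
      Nat.card ((P : Subgroup G) ⊓ Subgroup.centralizer {y'} : Subgroup G) ≤ 9) :
    ¬ 27 ∣ Nat.card (Subgroup.centralizer {y}) := by
  classical
  haveI : Fact (Nat.Prime 3) := ⟨Nat.prime_three⟩
  intro h27
  set C := Subgroup.centralizer ({y} : Set G) with hC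
  have hyC : y ∈ C := Subgroup.mem_centralizer_iff.mpr (by simp)
  have hp : IsPGroup 3 (Subgroup.zpowers (⟨y, hyC⟩ : C)) := by
    apply IsPGroup.of_card (n := 1)
    rw [Nat.card_zpowers, ← Subgroup.orderOf_coe, hy, pow_one]
  obtain ⟨Q, hQ⟩ := hp.exists_le_sylow
  have hyQ : (⟨y, hyC⟩ : C) ∈ (Q : Subgroup C) := hQ (Subgroup.mem_zpowers _)
  have hR : IsPGroup 3 ((Q : Subgroup C).map C.subtype) := Q.isPGroup'.map _
  obtain ⟨S, hS⟩ := hR.exists_le_sylow
  obtain ⟨g, hg⟩ := MulAction.exists_smul_eq G S P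
  have hmem : ∀ r ∈ (Q : Subgroup C).map C.subtype, g * r * g⁻¹ ∈ (P : Subgroup G) := by
    intro r hr
    rw [← hg, Sylow.coe_subgroup_smul, Subgroup.mem_pointwise_smul_iff_inv_smul_mem]
    simpa [MulAut.smul_def, MulAut.conj_apply, mul_assoc] using hS hr
  have hy' : g * y * g⁻¹ ∈ (P : Subgroup G) := hmem y ⟨⟨y, hyC⟩, hyQ, rfl⟩
  have hle : Nat.card (Q : Subgroup C) ≤
      Nat.card ((P : Subgroup G) ⊓ Subgroup.centralizer {g * y * g⁻¹} : Subgroup G) := by
    refine Nat.card_le_card_of_injective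
      (fun r => ⟨g * ((r : C) : G) * g⁻¹, hmem _ ⟨r, r.2, rfl⟩, ?_⟩) ?_
    · refine Subgroup.mem_centralizer_singleton_iff.mpr ?_
      have hr : ((r : C) : G) * y = y * ((r : C) : G) :=
        Subgroup.mem_centralizer_singleton_iff.mp (r : C).2
      calc g * ((r : C) : G) * g⁻¹ * (g * y * g⁻¹) = g * (((r : C) : G) * y) * g⁻¹ := by group
        _ = g * (y * ((r : C) : G)) * g⁻¹ := by rw [hr]
        _ = _ := by group
    · intro r1 r2 h
      have h' : g * ((r1 : C) : G) * g⁻¹ = g * ((r2 : C) : G) * g⁻¹ := congrArg Subtype.val h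
      exact Subtype.ext (Subtype.ext (by simpa using h'))
  have h3 : 27 ∣ Nat.card (Q : Subgroup C) := by
    have h := Q.pow_dvd_card_of_pow_dvd_card (n := 3) (by simpa using h27)
    simpa using h
  have h4 := h9 _ hy' (isConj_iff.mpr ⟨g, rfl⟩)
  have := Nat.le_of_dvd Nat.card_pos h3
  omega

/-- The core transfer argument. -/
theorem not_perfect_of_small_centralizer (P : Sylow 3 G) (y : G)
    (hyP : y ∈ (P : Subgroup G)) (hy : orderOf y = 3) (h27 : 27 ≤ Nat.card P)
    (h9 : ∀ y' ∈ (P : Subgroup G), IsConj y y' →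
      Nat.card ((P : Subgroup G) ⊓ Subgroup.centralizer {y'} : Subgroup G) = 9)
    (hnr : ¬ IsConj y y⁻¹) : commutator G ≠ ⊤ := by
  classical
  haveI : Fact (Nat.Prime 3) := ⟨Nat.prime_three⟩
  intro hperf
  haveI : Fintype G := Fintype.ofFinite _
  haveI : Fintype (G ⧸ (P : Subgroup G)) := Fintype.ofFinite _
  set mk : (P : Subgroup G) →* Abelianization (P : Subgroup G) := Abelianization.of with hmk
  have hclass : ∀ u : (P : Subgroup G), IsConj y (u : G) →
      Nat.card (orbit (ConjAct (P : Subgroup G)) u) * 9 = Nat.card P := by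
    intro u hu
    have h1 := card_orbit_mul_stab (H := ConjAct (P : Subgroup G)) u
    have h2 : Nat.card (stabilizer (ConjAct (P : Subgroup G)) u) = 9 := by
      rw [← h9 u u.2 hu]
      refine Nat.card_congr (Equiv.ofBijective
        (fun c => ⟨((ConjAct.ofConjAct c.1 : (P : Subgroup G)) : G),
          (ConjAct.ofConjAct c.1).2, ?_⟩) ⟨?_, ?_⟩)
      · refine Subgroup.mem_centralizer_singleton_iff.mpr ?_
        have h := c.2
        rw [mem_stabilizer_iff, ConjAct.smul_def, mul_inv_eq_iff_eq_mul] at h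
        exact congrArg Subtype.val h
      · intro c1 c2 h
        have h' := congrArg Subtype.val h
        exact Subtype.ext (ConjAct.ofConjAct.injective (Subtype.ext h'))
      · rintro ⟨v, hvP, hvC⟩
        refine ⟨⟨ConjAct.toConjAct ⟨v, hvP⟩, ?_⟩, rfl⟩
        rw [mem_stabilizer_iff, ConjAct.smul_def, mul_inv_eq_iff_eq_mul]
        exact Subtype.ext (Subgroup.mem_centralizer_singleton_iff.mp hvC)
    have h3 : Nat.card (ConjAct (P : Subgroup G)) = Nat.card P :=
      Nat.card_congr ConjAct.ofConjAct.toEquiv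
    rw [h2, h3] at h1
    exact h1
  have horb : ∀ u v : (P : Subgroup G), v ∈ orbit (ConjAct (P : Subgroup G)) u →
      mk v = mk u := by
    rintro u v ⟨c, rfl⟩
    show mk (c • u) = mk u
    rw [ConjAct.smul_def, map_mul, map_mul, map_inv, mul_comm, ← mul_assoc, inv_mul_cancel,
      one_mul]
  have hfibre : ∀ u : (P : Subgroup G),
      Nat.card {v // mk v = mk u} = Nat.card (commutator (P : Subgroup G)) := by
    intro u
    refine (Nat.card_congr (Equiv.ofBijective
      (fun c => (⟨u * c.1, ?_⟩ : {v // mk v = mk u})) ⟨?_, ?_⟩)).symm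
    · rw [map_mul, (Abelianization.commutator_subset_ker mk c.2 : mk c.1 = 1), mul_one]
    · intro c1 c2 h
      simp only [Subtype.mk.injEq, mul_right_inj] at h
      exact Subtype.ext h
    · rintro ⟨v, hv⟩
      refine ⟨⟨u⁻¹ * v, ?_⟩, Subtype.ext (mul_inv_cancel_left u v)⟩
      rw [← Abelianization.ker_of, MonoidHom.mem_ker, map_mul, map_inv]
      show (mk u)⁻¹ * mk v = 1
      rw [hv, inv_mul_cancel]
  have hQmul : Nat.card (Abelianization (P : Subgroup G)) *
      Nat.card (commutator (P : Subgroup G)) = Nat.card P :=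
    (Subgroup.card_eq_card_quotient_mul_card_subgroup (commutator (P : Subgroup G))).symm
  set yP : (P : Subgroup G) := ⟨y, hyP⟩ with hyPdef
  have hle : Nat.card (orbit (ConjAct (P : Subgroup G)) yP) ≤
      Nat.card (commutator (P : Subgroup G)) := by
    rw [← hfibre yP]
    exact Nat.card_le_card_of_injective (fun v => ⟨v.1, horb _ _ v.2⟩)
      (fun v1 v2 h => Subtype.ext (congrArg (Subtype.val) h :))
  have hQle : Nat.card (Abelianization (P : Subgroup G)) ≤ 9 := by
    have h1 := hclass yP (IsConj.refl y)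
    have h2 : 0 < Nat.card (commutator (P : Subgroup G)) := Nat.card_pos
    nlinarith
  have hnc : ¬ IsCyclic (Abelianization (P : Subgroup G)) := by
    intro hc
    obtain ⟨t, ht⟩ := hc.exists_generator
    obtain ⟨x, rfl⟩ := QuotientGroup.mk_surjective t
    have htop : Subgroup.zpowers x ⊔ frattini (P : Subgroup G) = ⊤ := by
      rw [eq_top_iff]
      intro v _
      obtain ⟨k, hk⟩ := Subgroup.mem_zpowers_iff.mp (ht (mk v))
      have h1 : (x ^ k)⁻¹ * v ∈ commutator (P : Subgroup G) := by
        rw [← Abelianization.ker_of, MonoidHom.mem_ker, map_mul, map_inv, map_zpow]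
        show (mk x ^ k)⁻¹ * mk v = 1
        rw [show mk x ^ k = mk v from hk, inv_mul_cancel]
      have h2 := H6.commutator_le_frattini P.isPGroup' h1
      have h3 := Subgroup.mul_mem_sup (Subgroup.zpow_mem _ (Subgroup.mem_zpowers x) k) h2
      rwa [mul_inv_cancel_left] at h3
    have hall : ∀ v : (P : Subgroup G), v ∈ Subgroup.zpowers x := by
      intro v
      rw [frattini_nongenerating htop]
      exact Subgroup.mem_top v
    have hinf : (P : Subgroup G) ⊓ Subgroup.centralizer {y} = (P : Subgroup G) := by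
      rw [inf_eq_left]
      intro v hv
      obtain ⟨i, hi⟩ := Subgroup.mem_zpowers_iff.mp (hall ⟨v, hv⟩)
      obtain ⟨j, hj⟩ := Subgroup.mem_zpowers_iff.mp (hall yP)
      have hc : (⟨v, hv⟩ : (P : Subgroup G)) * yP = yP * ⟨v, hv⟩ := by
        rw [← hi, ← hj, ← zpow_add, ← zpow_add, add_comm]
      exact Subgroup.mem_centralizer_singleton_iff.mpr (congrArg Subtype.val hc)
    have h := h9 y hyP (IsConj.refl y)
    rw [hinf] at h
    omega
  have hQ9 : Nat.card (Abelianization (P : Subgroup G)) = 9 := by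
    obtain ⟨n, hn⟩ := (P.isPGroup'.to_quotient (commutator (P : Subgroup G))).exists_card_eq
    have hn' : Nat.card (Abelianization (P : Subgroup G)) = 3 ^ n := hn
    rcases n with _ | _ | _ | n
    · exfalso
      haveI : Subsingleton (Abelianization (P : Subgroup G)) :=
        (Nat.card_eq_one_iff_unique.mp (by simpa using hn')).1
      exact hnc inferInstance
    · exact absurd (isCyclic_of_prime_card (p := 3) (by simpa using hn')) hnc
    · simpa using hn'
    · exfalso
      rw [pow_succ, pow_succ, pow_succ] at hn'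
      have : 0 < 3 ^ n := Nat.pos_of_ne_zero (by simp)
      nlinarith
  have hexp : ∀ t : Abelianization (P : Subgroup G), t ^ 3 = 1 := by
    intro t
    have hd : orderOf t ∣ 3 ^ 2 := by
      have := orderOf_dvd_natCard t
      rwa [hQ9] at this
    obtain ⟨k, hk, hk'⟩ := (Nat.dvd_prime_pow Nat.prime_three).mp hd
    interval_cases k
    · have ht1 : t = 1 := orderOf_eq_one_iff.mp (by simpa using hk')
      rw [ht1, one_pow]
    · exact orderOf_dvd_iff_pow_eq_one.mp (by rw [hk']; simp)
    · exact absurd (isCyclic_of_orderOf_eq_card t (by rw [hk', hQ9]; norm_num)) hnc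
  have hfull : ∀ u v : (P : Subgroup G), IsConj y (u : G) → mk v = mk u →
      v ∈ orbit (ConjAct (P : Subgroup G)) u := by
    intro u v hu hv
    have hcard : Nat.card {v // mk v = mk u} ≤ Nat.card (orbit (ConjAct (P : Subgroup G)) u) := by
      rw [hfibre u]
      have := hclass u hu
      rw [hQ9] at hQmul
      omega
    have hbij : Function.Bijective
        (fun v : orbit (ConjAct (P : Subgroup G)) u =>
          (⟨v.1, horb _ _ v.2⟩ : {v // mk v = mk u})) := by
      have hinj : Function.Injective (fun v : orbit (ConjAct (P : Subgroup G)) u =>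
          (⟨v.1, horb _ _ v.2⟩ : {v // mk v = mk u})) :=
        fun v1 v2 h => Subtype.ext (congrArg Subtype.val h :)
      exact (Nat.bijective_iff_injective_and_card _).mpr
        ⟨hinj, le_antisymm (Nat.card_le_card_of_injective _ hinj) hcard⟩
    obtain ⟨w, hw⟩ := hbij.2 ⟨v, hv⟩
    have : w.1 = v := congrArg Subtype.val hw
    exact this ▸ w.2
  have hconj : ∀ u v : (P : Subgroup G), IsConj y (u : G) → mk v = mk u → IsConj y (v : G) := by
    intro u v hu hv
    obtain ⟨c, rfl⟩ := hfull u v hu hv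
    refine hu.trans (isConj_iff.mpr ⟨((ConjAct.ofConjAct c : (P : Subgroup G)) : G), ?_⟩)
    simp [ConjAct.smul_def]
  have hy1 : y ≠ 1 := by
    intro h; rw [h, orderOf_one] at hy; exact absurd hy (by norm_num)
  set F : Finset (G ⧸ (P : Subgroup G)) :=
    Finset.univ.filter (fun q => q.out⁻¹ * y * q.out ∈ (P : Subgroup G)) with hF
  set wt := coWeight mk y with hwt
  set Y : Finset (Abelianization (P : Subgroup G)) := F.image wt with hY
  have hwtval : ∀ q ∈ F, ∃ u : (P : Subgroup G), (u : G) = q.out⁻¹ * y * q.out ∧ wt q = mk u := by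
    intro q hq
    have hm := (Finset.mem_filter.mp hq).2
    exact ⟨⟨_, hm⟩, rfl, by rw [hwt, coWeight, dif_pos hm]⟩
  have hconjq : ∀ g : G, IsConj y (g⁻¹ * y * g) := fun g =>
    isConj_iff.mpr ⟨g⁻¹, by rw [inv_inv]⟩
  have hYmem : ∀ t, t ∈ Y ↔ ∃ u : (P : Subgroup G), IsConj y (u : G) ∧ mk u = t := by
    intro t
    constructor
    · intro ht
      obtain ⟨q, hq, rfl⟩ := Finset.mem_image.mp ht
      obtain ⟨u, hu, hwu⟩ := hwtval q hq
      exact ⟨u, hu ▸ hconjq _, hwu.symm⟩
    · rintro ⟨u, hu, rfl⟩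
      obtain ⟨c, hc⟩ := isConj_iff.mp hu
      obtain ⟨h, hh⟩ := QuotientGroup.mk_out_eq_mul (P : Subgroup G) c⁻¹
      have heq : (QuotientGroup.mk c⁻¹ : G ⧸ (P : Subgroup G)).out⁻¹ * y *
          (QuotientGroup.mk c⁻¹ : G ⧸ (P : Subgroup G)).out = (h : G)⁻¹ * (u : G) * h := by
        rw [hh, ← hc]; group
      have hm : (QuotientGroup.mk c⁻¹ : G ⧸ (P : Subgroup G)).out⁻¹ * y *
          (QuotientGroup.mk c⁻¹ : G ⧸ (P : Subgroup G)).out ∈ (P : Subgroup G) := by
        rw [heq]; exact Subgroup.mul_mem _ (Subgroup.mul_mem _ (Subgroup.inv_mem _ h.2) u.2) h.2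
      refine Finset.mem_image.mpr ⟨_, Finset.mem_filter.mpr ⟨Finset.mem_univ _, hm⟩, ?_⟩
      rw [hwt, coWeight, dif_pos hm]
      have : (⟨_, hm⟩ : (P : Subgroup G)) = h⁻¹ * u * h := Subtype.ext heq
      rw [this, map_mul, map_mul, map_inv, mul_comm, ← mul_assoc, mul_inv_cancel, one_mul]
  set C := Subgroup.centralizer ({y} : Set G) with hC
  have hnine : ∀ t ∈ Y, (F.filter fun q => wt q = t).card * 9 = Nat.card C := by
    intro t ht
    obtain ⟨q, hq, rfl⟩ := Finset.mem_image.mp ht
    obtain ⟨u, hu, hwu⟩ := hwtval q hq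
    have huc : IsConj y (u : G) := hu ▸ hconjq _
    have horbit : orbit C q = ↑(F.filter fun q' => wt q' = wt q) := by
      ext q'
      rw [Finset.mem_coe, Finset.mem_filter]
      constructor
      · rintro ⟨c, rfl⟩
        have hc : (c : G)⁻¹ * y * c = y := by
          rw [mul_assoc, ← Subgroup.mem_centralizer_singleton_iff.mp c.2, inv_mul_cancel_left]
        obtain ⟨h, hh⟩ : ∃ h : (P : Subgroup G), (c • q).out = (c : G) * q.out * h := by
          have h1 : (c • q) = QuotientGroup.mk ((c : G) * q.out) := by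
            show (c : G) • q = _
            conv_lhs => rw [← QuotientGroup.out_eq' q, MulAction.Quotient.smul_mk, smul_eq_mul]
          obtain ⟨h, hh⟩ := QuotientGroup.mk_out_eq_mul (P : Subgroup G) ((c : G) * q.out)
          exact ⟨h, by rw [h1, hh]⟩
        have heq : (c • q).out⁻¹ * y * (c • q).out = (h : G)⁻¹ * (u : G) * h := by
          rw [hh, hu]
          calc ((c : G) * q.out * h)⁻¹ * y * ((c : G) * q.out * h)
              = (h : G)⁻¹ * (q.out⁻¹ * ((c : G)⁻¹ * y * c) * q.out) * h := by group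
            _ = _ := by rw [hc]
        have hm : (c • q).out⁻¹ * y * (c • q).out ∈ (P : Subgroup G) := by
          rw [heq]; exact Subgroup.mul_mem _ (Subgroup.mul_mem _ (Subgroup.inv_mem _ h.2) u.2) h.2
        refine ⟨Finset.mem_filter.mpr ⟨Finset.mem_univ _, hm⟩, ?_⟩
        rw [hwu, hwt, coWeight, dif_pos hm]
        have : (⟨_, hm⟩ : (P : Subgroup G)) = h⁻¹ * u * h := Subtype.ext heq
        rw [this, map_mul, map_mul, map_inv, mul_comm, ← mul_assoc, mul_inv_cancel, one_mul]
      · rintro ⟨hq', hw'⟩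
        obtain ⟨v, hv, hwv⟩ := hwtval q' hq'
        obtain ⟨p, hp⟩ := hfull u v huc (by rw [← hwv, hw', hwu])
        set r : (P : Subgroup G) := ConjAct.ofConjAct p with hr
        have hpu : (r : G) * (u : G) * (r : G)⁻¹ = (v : G) := by
          rw [← hp]; simp [ConjAct.smul_def, hr]
        set c := q'.out * (r : G) * q.out⁻¹ with hc
        have hcC : c ∈ C := by
          rw [hC, Subgroup.mem_centralizer_singleton_iff, hc]
          rw [hu, hv] at hpu
          calc q'.out * (r : G) * q.out⁻¹ * y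
              = q'.out * ((r : G) * (q.out⁻¹ * y * q.out) * (r : G)⁻¹) *
                  ((r : G) * q.out⁻¹) := by group
            _ = q'.out * (q'.out⁻¹ * y * q'.out) * ((r : G) * q.out⁻¹) := by rw [hpu]
            _ = _ := by group
        refine ⟨⟨c, hcC⟩, ?_⟩
        show c • q = q'
        conv_lhs => rw [← QuotientGroup.out_eq' q, MulAction.Quotient.smul_mk, smul_eq_mul, hc,
          inv_mul_cancel_right]
        conv_rhs => rw [← QuotientGroup.out_eq' q']
        rw [QuotientGroup.eq]
        simp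
    have hstab : Nat.card (stabilizer C q) = 9 := by
      rw [← h9 u u.2 huc]
      have key : ∀ c : C, c • q = q ↔ q.out⁻¹ * (c : G) * q.out ∈ (P : Subgroup G) :=
        fun c => fixed_iff_out (c : G) q
      refine Nat.card_congr (Equiv.ofBijective
        (fun c => ⟨q.out⁻¹ * ((c : C) : G) * q.out, (key _).mp c.2, ?_⟩) ⟨?_, ?_⟩)
      · refine Subgroup.mem_centralizer_singleton_iff.mpr ?_
        rw [hu]
        have hc := Subgroup.mem_centralizer_singleton_iff.mp c.1.2
        calc q.out⁻¹ * ((c : C) : G) * q.out * (q.out⁻¹ * y * q.out)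
            = q.out⁻¹ * (((c : C) : G) * y) * q.out := by group
          _ = q.out⁻¹ * (y * ((c : C) : G)) * q.out := by rw [hc]
          _ = _ := by group
      · intro c1 c2 h
        have h' : q.out⁻¹ * ((c1 : C) : G) * q.out = q.out⁻¹ * ((c2 : C) : G) * q.out := congrArg Subtype.val h
        exact Subtype.ext (Subtype.ext (by simpa using h'))
      · rintro ⟨v, hvP, hvC⟩
        have hvC' := Subgroup.mem_centralizer_singleton_iff.mp hvC
        rw [hu] at hvC'
        refine ⟨⟨⟨q.out * v * q.out⁻¹, ?_⟩, ?_⟩, Subtype.ext ?_⟩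
        · rw [hC, Subgroup.mem_centralizer_singleton_iff]
          calc q.out * v * q.out⁻¹ * y
              = q.out * (v * (q.out⁻¹ * y * q.out)) * q.out⁻¹ := by group
            _ = q.out * (q.out⁻¹ * y * q.out * v) * q.out⁻¹ := by rw [hvC']
            _ = _ := by group
        · rw [mem_stabilizer_iff, key]
          have e1 : q.out⁻¹ * (q.out * v * q.out⁻¹) * q.out = v := by group
          show q.out⁻¹ * (q.out * v * q.out⁻¹) * q.out ∈ (P : Subgroup G)
          rw [e1]; exact hvP
        · simp [mul_assoc]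
    have h := card_orbit_mul_stab (H := C) q
    rw [hstab, horbit] at h
    rwa [Nat.card_coe_set_eq, Set.ncard_coe_finset] at h
  have hc3 : ¬ 3 ∣ Nat.card C / 9 := by
    intro hd
    have hYne : Y.Nonempty := ⟨mk yP, (hYmem _).mpr ⟨yP, IsConj.refl y, rfl⟩⟩
    obtain ⟨t, ht⟩ := hYne
    have h := hnine t ht
    refine not_twentyseven_dvd P y hy (fun y' h1 h2 => (h9 y' h1 h2).le) ?_
    rw [← hC]
    omega
  have hprodY : ∏ t ∈ Y, t = 1 := by
    have hV : MonoidHom.transfer mk y = 1 := by
      have h : y ∈ (MonoidHom.transfer mk).ker :=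
        Abelianization.commutator_subset_ker _ (hperf ▸ Subgroup.mem_top y)
      exact h
    rw [transfer_eq_prod_fixed mk y] at hV
    swap
    · intro q hq hm
      have hper : Function.minimalPeriod (y • ·) q = 3 := by
        have h3 : Function.IsPeriodicPt (y • ·) 3 q := by
          show (y • ·)^[3] q = q
          have hy3 : y ^ 3 = 1 := orderOf_dvd_iff_pow_eq_one.mp (dvd_of_eq hy)
          rw [smul_iterate]
          show y ^ 3 • q = q
          rw [hy3, one_smul]
        rcases (Nat.dvd_prime Nat.prime_three).mp h3.minimalPeriod_dvd with h | h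
        · exact absurd (Function.minimalPeriod_eq_one_iff_isFixedPt.mp h) hq
        · exact h
      have hy3 : y ^ 3 = 1 := orderOf_dvd_iff_pow_eq_one.mp (dvd_of_eq hy)
      have : (⟨_, hm⟩ : (P : Subgroup G)) = 1 := Subtype.ext (by simp [hper, hy3])
      rw [this, map_one]
    rw [← Finset.prod_filter_of_ne (p := fun q => q.out⁻¹ * y * q.out ∈ (P : Subgroup G))
      (fun q _ h => by by_contra hc; exact h (by rw [coWeight, dif_neg hc]))] at hV
    rw [← hF, ← hwt, ← Finset.prod_fiberwise_of_maps_to (t := Y) (g := wt)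
      (fun q hq => Finset.mem_image_of_mem wt hq)] at hV
    have h2 : ∀ t ∈ Y, ∏ q ∈ F.filter (fun q => wt q = t), wt q = t ^ (Nat.card C / 9) := by
      intro t ht
      rw [Finset.prod_congr rfl (fun q hq => (Finset.mem_filter.mp hq).2), Finset.prod_const,
        ← hnine t ht, Nat.mul_div_cancel _ (by norm_num)]
    rw [Finset.prod_congr rfl h2, Finset.prod_pow] at hV
    have h3 := hexp (∏ t ∈ Y, t)
    have h4 := Nat.Coprime.pow_left_bijective (G := Subgroup.zpowers (∏ t ∈ Y, t)) (n := Nat.card C / 9)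
    rw [← orderOf_eq_one_iff]
    exact Nat.eq_one_of_dvd_coprimes ((Nat.prime_three.coprime_iff_not_dvd).mpr hc3)
      (orderOf_dvd_of_pow_eq_one h3) (orderOf_dvd_of_pow_eq_one hV)
  -- coordinates on the abelianisation
  obtain ⟨a0, ha0⟩ : ∃ a : Abelianization (P : Subgroup G), a ≠ 1 := by
    by_contra! h
    haveI : Subsingleton (Abelianization (P : Subgroup G)) :=
      ⟨fun a b => by rw [h a, h b]⟩
    exact hnc inferInstance
  obtain ⟨b0, hb0⟩ : ∃ b : Abelianization (P : Subgroup G), b ∉ Subgroup.zpowers a0 := by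
    by_contra! h
    exact hnc ⟨a0, h⟩
  set A := Additive (Abelianization (P : Subgroup G))
  have hA3 : ∀ t : A, zmultiplesHom A t ((3 : ℕ) : ℤ) = 0 := by
    intro t
    simp only [zmultiplesHom_apply, natCast_zsmul]
    exact hexp (Additive.toMul t)
  set f : ZMod 3 × ZMod 3 →+ A :=
    AddMonoidHom.coprod (ZMod.lift 3 ⟨zmultiplesHom A (Additive.ofMul a0), hA3 _⟩)
      (ZMod.lift 3 ⟨zmultiplesHom A (Additive.ofMul b0), hA3 _⟩) with hf
  have hf1 : f (1, 0) = Additive.ofMul a0 := by
    have h1 : ((1 : ℤ) : ZMod 3) = 1 := Int.cast_one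
    rw [hf, AddMonoidHom.coprod_apply, map_zero, add_zero, ← h1, ZMod.lift_coe]
    exact one_zsmul _
  have hf2 : f (0, 1) = Additive.ofMul b0 := by
    have h1 : ((1 : ℤ) : ZMod 3) = 1 := Int.cast_one
    rw [hf, AddMonoidHom.coprod_apply, map_zero, zero_add, ← h1, ZMod.lift_coe]
    exact one_zsmul _
  have hsurj : Function.Surjective f := by
    set R : Subgroup (Abelianization (P : Subgroup G)) := AddSubgroup.toSubgroup' f.range
    have haR : Subgroup.zpowers a0 ≤ R := Subgroup.zpowers_le.mpr ⟨(1, 0), hf1⟩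
    have hbR : b0 ∈ R := ⟨(0, 1), hf2⟩
    have hlt : Nat.card (Subgroup.zpowers a0) < Nat.card R := by
      refine lt_of_le_of_ne (Nat.card_mono (Set.toFinite _) haR) fun h => ?_
      exact hb0 ((Subgroup.eq_of_le_of_card_ge haR h.ge).symm ▸ hbR)
    rw [Nat.card_zpowers, orderOf_eq_prime (hexp a0) ha0] at hlt
    have hdvd : Nat.card R ∣ 3 ^ 2 := by
      have := Subgroup.card_subgroup_dvd_card R
      rwa [hQ9] at this
    obtain ⟨k, hk, hk'⟩ := (Nat.dvd_prime_pow Nat.prime_three).mp hdvd
    have hR : R = ⊤ := by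
      apply Subgroup.eq_top_of_card_eq
      rw [hk', hQ9]
      interval_cases k <;> omega
    intro t
    have : Additive.toMul t ∈ R := hR ▸ Subgroup.mem_top _
    exact this
  have hbij : Function.Bijective f := by
    refine (Nat.bijective_iff_surjective_and_card _).mpr ⟨hsurj, ?_⟩
    rw [Nat.card_prod, Nat.card_zmod]
    exact hQ9.symm
  set e : ZMod 3 × ZMod 3 ≃+ A := AddEquiv.ofBijective f hbij with he
  set Yb : ZMod 3 → ZMod 3 → Bool := fun i j => decide (Additive.toMul (e (i, j)) ∈ Y) with hYb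
  have hYnot : (1 : Abelianization (P : Subgroup G)) ∉ Y := by
    intro h
    obtain ⟨u, hu, hu1⟩ := (hYmem 1).mp h
    have := hconj u 1 hu (by rw [map_one, hu1])
    exact hy1 (isConj_one_left.mp this)
  have hYinv : ∀ t ∈ Y, t⁻¹ ∉ Y := by
    intro t ht ht'
    obtain ⟨u, hu, rfl⟩ := (hYmem t).mp ht
    obtain ⟨v, hv, hv'⟩ := (hYmem _).mp ht'
    have h1 : IsConj y ((v⁻¹ : (P : Subgroup G)) : G) :=
      hconj u v⁻¹ hu (by rw [map_inv, hv', inv_inv])
    obtain ⟨c, hc⟩ := isConj_iff.mp hv
    have h2 : IsConj y⁻¹ ((v : G))⁻¹ := isConj_iff.mpr ⟨c, by rw [← hc]; group⟩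
    rw [Subgroup.coe_inv] at h1
    exact hnr (h1.trans h2.symm)
  obtain ⟨a, b, hab⟩ := plane_set Yb
    (by
      simp only [hYb, decide_eq_false_iff_not]
      have : e ((0 : ZMod 3), (0 : ZMod 3)) = 0 := map_zero e
      rw [this]; exact hYnot)
    (by
      intro i j h
      simp only [hYb, decide_eq_true_eq, decide_eq_false_iff_not] at h ⊢
      have : e (-i, -j) = - e (i, j) := map_neg e (i, j)
      rw [this]; exact hYinv _ h)
    (by
      obtain ⟨w, hw⟩ := e.surjective (Additive.ofMul (mk yP))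
      refine ⟨w.1, w.2, ?_⟩
      simp only [hYb, decide_eq_true_eq]
      show Additive.toMul (e w) ∈ Y
      rw [hw]
      exact (hYmem _).mpr ⟨yP, IsConj.refl y, rfl⟩)
    (by
      apply e.injective
      rw [← Finset.sum_product', Finset.univ_product_univ, map_sum]
      have h0 : e ((0 : ZMod 3), (0 : ZMod 3)) = 0 := map_zero e
      rw [h0]
      apply Additive.toMul.injective
      rw [toMul_zero, toMul_sum]
      rw [← hprodY]
      have hterm : ∀ x : ZMod 3 × ZMod 3,
          Additive.toMul (e (if Yb x.1 x.2 = true then (x.1, x.2) else (0, 0))) =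
          if Additive.toMul (e x) ∈ Y then Additive.toMul (e x) else 1 := by
        intro x
        simp only [hYb, decide_eq_true_eq]
        split_ifs
        · rfl
        · rw [h0]; rfl
      rw [Finset.prod_congr rfl (fun x _ => hterm x)]
      refine (Equiv.prod_comp (e.toEquiv.trans Additive.toMul)
        (fun t => if t ∈ Y then t else 1)).trans ?_
      simp [Finset.prod_ite_mem])
  set χ : ↥(P : Subgroup G) → ZMod 3 := fun u =>
    a * (e.symm (Additive.ofMul (mk u))).1 + b * (e.symm (Additive.ofMul (mk u))).2 with hχ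
  have hχmul : ∀ u v, χ (u * v) = χ u + χ v := by
    intro u v
    simp only [hχ, map_mul, ofMul_mul, map_add, Prod.fst_add, Prod.snd_add]
    ring
  have hχone : χ 1 = 0 := by have := hχmul 1 1; simpa using this
  have hχinv : ∀ u, χ u⁻¹ = - χ u := by
    intro u
    have := hχmul u u⁻¹
    rw [mul_inv_cancel, hχone] at this
    exact eq_neg_of_add_eq_zero_right this.symm
  have hiff : ∀ u : (P : Subgroup G), χ u = 1 ↔ IsConj y (u : G) := by
    intro u
    have h1 := hab (e.symm (Additive.ofMul (mk u))).1 (e.symm (Additive.ofMul (mk u))).2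
    have h2 : (Yb (e.symm (Additive.ofMul (mk u))).1 (e.symm (Additive.ofMul (mk u))).2 = true) ↔
        mk u ∈ Y := by
      simp only [hYb, decide_eq_true_eq]
      show Additive.toMul (e (e.symm (Additive.ofMul (mk u)))) ∈ Y ↔ _
      rw [AddEquiv.apply_symm_apply]
      rfl
    rw [h2] at h1
    refine h1.symm.trans ?_
    rw [hYmem]
    exact ⟨fun ⟨v, hv, hv'⟩ => hconj v u hv hv'.symm, fun h => ⟨u, h, rfl⟩⟩
  have hone : ∀ u v : (P : Subgroup G), IsConj (u : G) (v : G) → χ u ≠ 0 → χ v = χ u := by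
    intro u v huv hu
    rcases zmod3_units _ hu with h | h
    · rw [h]; exact (hiff v).mpr (((hiff u).mp h).trans huv)
    · rw [← hχinv] at h
      obtain ⟨c, hc⟩ := isConj_iff.mp huv
      have hi : IsConj ((u : G))⁻¹ ((v : G))⁻¹ := isConj_iff.mpr ⟨c, by rw [← hc]; group⟩
      have : χ v⁻¹ = 1 := (hiff _).mpr (by
        rw [Subgroup.coe_inv]
        have := (hiff _).mp h
        rw [Subgroup.coe_inv] at this
        exact this.trans hi)
      rw [hχinv] at this h
      exact neg_injective (this.trans h.symm)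
  have hinvt : ∀ u v : (P : Subgroup G), IsConj (u : G) (v : G) → χ v = χ u := by
    intro u v huv
    by_cases hu : χ u = 0
    · by_cases hv : χ v = 0
      · rw [hu, hv]
      · exact (hone v u huv.symm hv).symm
    · exact hone u v huv hu
  have hker : ∀ u : (P : Subgroup G), χ u = 0 := by
    have hfoc : (P : Subgroup G) ≤ Subgroup.focalSubgroup (P : Subgroup G) := by
      rw [← H5.commutator_inf_eq_focalSubgroup_of_hall (P : Subgroup G) P.card_coprime_index,
        hperf]
      simp
    let K : Subgroup G :=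
      { carrier := {g | ∃ h : g ∈ (P : Subgroup G), χ ⟨g, h⟩ = 0}
        one_mem' := ⟨Subgroup.one_mem _, hχone⟩
        mul_mem' := fun ⟨h1, h1'⟩ ⟨h2, h2'⟩ => ⟨Subgroup.mul_mem _ h1 h2,
          (hχmul ⟨_, h1⟩ ⟨_, h2⟩).trans (by rw [h1', h2', add_zero])⟩
        inv_mem' := fun ⟨h, h'⟩ => ⟨Subgroup.inv_mem _ h,
          (hχinv ⟨_, h⟩).trans (by rw [h', neg_zero])⟩ }
    have hle : Subgroup.focalSubgroup (P : Subgroup G) ≤ K := by
      rw [Subgroup.focalSubgroup_def, Subgroup.closure_le]
      rintro g ⟨hgP, x, hx, c, rfl⟩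
      refine ⟨hgP, ?_⟩
      set u : (P : Subgroup G) := ⟨x, hx⟩
      set w : (P : Subgroup G) := ⟨_, hgP⟩
      have h := hinvt u⁻¹ (u⁻¹ * w) (isConj_iff.mpr ⟨c, by
        simp [u, w, commutatorElement_def, mul_assoc]⟩)
      rw [hχmul] at h
      exact add_eq_left.mp h
    intro u
    obtain ⟨_, hu⟩ := hle (hfoc u.2)
    exact hu
  have := (hiff yP).mpr (IsConj.refl y)
  rw [hker] at this
  exact zero_ne_one this

end H70.Fix4
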